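import Cfsg.Agent.DihProd.Common

/-!
Sylow 2-subgroup a product of two nonabelian dihedral groups.
-/

set_option autoImplicit false
set_option linter.style.haveILetI false

namespace Cfsg.Agent.DihProd

open Subgroup

variable {G : Type*} [Group G] {P : Sylow 2 G} {D D₁ D₂ : Subgroup G} {n n₁ n₂ : ℕ}
  {c e c₁ e₁ c₂ e₂ : G}

theorem Dih.not_comm (h : Dih D n c e) : ¬ Commute e c := fun hc => by
  have h1 := h.ec
  rw [hc.eq, mul_inv_cancel_right] at h1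
  have h3 : orderOf c ∣ 2 := orderOf_dvd_of_pow_eq_one (by
    rw [pow_two]; nth_rewrite 1 [h1]; rw [inv_mul_cancel])
  rw [h.oc] at h3
  have := Nat.le_of_dvd (by norm_num) h3
  have : 2 ^ 2 ≤ 2 ^ (n + 2) := Nat.pow_le_pow_right (by norm_num) (by omega)
  omega

theorem Dih.sq_one_cases (h : Dih D n c e) {x : G} (hx : x ∈ D) (h2 : x * x = 1) :
    x = 1 ∨ x = cz n c ∨ ∃ i : ℤ, x = c ^ i * e := by
  by_cases h1 : x = 1
  · exact Or.inl h1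
  · exact Or.inr (h.invol_cases hx (Invol.orderOf_eq_two_iff.2 ⟨h1, h2⟩))

theorem Dih.commute_of_refl (h : Dih D n c e) {i : ℤ} {u v : G} (hu : u ∈ D) (hv : v ∈ D)
    (hcu : Commute u (c ^ i * e)) (hcv : Commute v (c ^ i * e)) : Commute u v := by
  have hz : Commute (c ^ i * e) (cz n c) := h.cz_comm (h.refl_mem i)
  rcases h.commute_refl hu hcu with rfl | rfl | rfl | rfl
  · exact Commute.one_left v
  · exact (h.cz_comm hv).symm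
  · exact hcv.symm
  · exact (h.cz_comm hv).symm.mul_left hcv.symm

/-- The two dihedral factors. -/
structure Two (P : Sylow 2 G) (D₁ D₂ : Subgroup G) (n₁ n₂ : ℕ) (c₁ e₁ c₂ e₂ : G) : Prop where
  split : Split P D₁ D₂
  d₁ : Dih D₁ n₁ c₁ e₁
  d₂ : Dih D₂ n₂ c₂ e₂

theorem Two.symm (h : Two P D₁ D₂ n₁ n₂ c₁ e₁ c₂ e₂) : Two P D₂ D₁ n₂ n₁ c₂ e₂ c₁ e₁ :=
  ⟨h.split.symm, h.d₂, h.d₁⟩

theorem Two.z_central (h : Two P D₁ D₂ n₁ n₂ c₁ e₁ c₂ e₂) : ∀ p ∈ P, Commute p (cz n₁ c₁) := by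
  intro p hp
  obtain ⟨a, ha, b, hb, rfl⟩ := h.split.decomp hp
  exact (h.d₁.cz_comm ha).mul_left (h.split.comm _ h.d₁.cz_mem b hb).symm

theorem Two.z12_central (h : Two P D₁ D₂ n₁ n₂ c₁ e₁ c₂ e₂) :
    ∀ p ∈ P, Commute p (cz n₁ c₁ * cz n₂ c₂) :=
  fun p hp => (h.z_central p hp).mul_right (h.symm.z_central p hp)

theorem Two.z_mem (h : Two P D₁ D₂ n₁ n₂ c₁ e₁ c₂ e₂) : cz n₁ c₁ ∈ P := h.split.le₁ h.d₁.cz_mem

theorem Two.invol_parts (h : Two P D₁ D₂ n₁ n₂ c₁ e₁ c₂ e₂) {x : G} (hx : x ∈ P) (h2 : x * x = 1) :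
    ∃ a ∈ D₁, ∃ b ∈ D₂, a * b = x ∧
      (a = 1 ∨ a = cz n₁ c₁ ∨ ∃ i : ℤ, a = c₁ ^ i * e₁) ∧
      (b = 1 ∨ b = cz n₂ c₂ ∨ ∃ i : ℤ, b = c₂ ^ i * e₂) := by
  obtain ⟨a, ha, b, hb, rfl⟩ := h.split.decomp hx
  obtain ⟨ha2, hb2⟩ := h.split.sq_parts ha hb h2
  exact ⟨a, ha, b, hb, rfl, h.d₁.sq_one_cases ha ha2, h.d₂.sq_one_cases hb hb2⟩

/-- Three central involutions. -/
def IsZ (n₁ n₂ : ℕ) (c₁ c₂ x : G) : Prop :=
  x = cz n₁ c₁ ∨ x = cz n₂ c₂ ∨ x = cz n₁ c₁ * cz n₂ c₂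

theorem Two.isZ_of (_h : Two P D₁ D₂ n₁ n₂ c₁ e₁ c₂ e₂) {a b : G}
    (ha : a = 1 ∨ a = cz n₁ c₁) (hb : b = 1 ∨ b = cz n₂ c₂) (hne : a * b ≠ 1) :
    IsZ n₁ n₂ c₁ c₂ (a * b) := by
  rcases ha with rfl | rfl <;> rcases hb with rfl | rfl
  · exact absurd (one_mul 1) hne
  · exact Or.inr (Or.inl (one_mul _))
  · exact Or.inl (mul_one _)
  · exact Or.inr (Or.inr rfl)

theorem Two.central_cases (h : Two P D₁ D₂ n₁ n₂ c₁ e₁ c₂ e₂) {x : G} (hx : x ∈ P)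
    (h2 : orderOf x = 2) (hc : ∀ p ∈ P, Commute p x) : IsZ n₁ n₂ c₁ c₂ x := by
  obtain ⟨a, ha, b, hb, rfl⟩ := h.split.decomp hx
  have ha' : ∀ y ∈ D₁, Commute a y := fun y hy =>
    (h.split.commute_parts ha hy hb (one_mem _)
      (by rw [mul_one]; exact (hc y (h.split.le₁ hy)).symm)).1
  have hb' : ∀ y ∈ D₂, Commute b y := fun y hy =>
    (h.split.commute_parts ha (one_mem _) hb hy
      (by rw [one_mul]; exact (hc y (h.split.le₂ hy)).symm)).2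
  exact h.isZ_of (h.d₁.center_cases ha ha') (h.d₂.center_cases hb hb') (Invol.ne_one h2)

theorem Two.sq_cases (h : Two P D₁ D₂ n₁ n₂ c₁ e₁ c₂ e₂) {q : G} (hq : q ∈ P)
    (h2 : orderOf (q * q) = 2) : IsZ n₁ n₂ c₁ c₂ (q * q) := by
  obtain ⟨a, ha, b, hb, rfl⟩ := h.split.decomp hq
  have e := h.split.mul_mul (a := a) (b' := b) ha hb
  rw [e] at h2 ⊢
  have hsq := Invol.mul_self_eq_one h2
  obtain ⟨ha2, hb2⟩ := h.split.sq_parts (mul_mem ha ha) (mul_mem hb hb) hsq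
  refine h.isZ_of ?_ ?_ (Invol.ne_one h2)
  · by_cases h1 : a * a = 1
    · exact Or.inl h1
    · exact Or.inr (h.d₁.zpow_eq_cz_of_sq (h.d₁.sq_mem ha)
        (Invol.orderOf_eq_two_iff.2 ⟨h1, ha2⟩))
  · by_cases h1 : b * b = 1
    · exact Or.inl h1
    · exact Or.inr (h.d₂.zpow_eq_cz_of_sq (h.d₂.sq_mem hb)
        (Invol.orderOf_eq_two_iff.2 ⟨h1, hb2⟩))

theorem Two.z_ne (h : Two P D₁ D₂ n₁ n₂ c₁ e₁ c₂ e₂) : cz n₁ c₁ ≠ cz n₂ c₂ := fun e => by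
  have hm : cz n₁ c₁ ∈ D₁ ⊓ D₂ := ⟨h.d₁.cz_mem, e ▸ h.d₂.cz_mem⟩
  rw [h.split.disj, Subgroup.mem_bot] at hm
  exact Invol.ne_one h.d₁.orderOf_cz hm

theorem Two.orderOf_z12 (h : Two P D₁ D₂ n₁ n₂ c₁ e₁ c₂ e₂) :
    orderOf (cz n₁ c₁ * cz n₂ c₂) = 2 := by
  refine Invol.orderOf_eq_two_iff.2 ⟨fun e => h.z_ne ?_, ?_⟩
  · rw [eq_inv_of_mul_eq_one_left e, Invol.inv_eq_self h.d₂.orderOf_cz]
  · rw [h.split.mul_mul h.d₁.cz_mem h.d₂.cz_mem, h.d₁.cz_sq, h.d₂.cz_sq, one_mul]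

/-- Distinguishes the centres of the factors inside `P`. -/
def Good (P : Sylow 2 G) (z : G) : Prop :=
  ∃ x ∈ P, x * x = 1 ∧ (∃ u ∈ P, ¬ Commute u x) ∧
    (∃ u ∈ P, ∃ v ∈ P, Commute u x ∧ Commute v x ∧ ¬ Commute u v) ∧
    ∃ s ∈ P, s * x * s⁻¹ = z * x

theorem Good.conj {z m : G} (hz : Good P z) (hm : m ∈ normalizer ((P : Subgroup G) : Set G)) :
    Good P (m * z * m⁻¹) := by
  have hmem : ∀ u ∈ P, m * u * m⁻¹ ∈ P := fun u hu => (mem_normalizer_iff.1 hm u).1 hu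
  obtain ⟨x, hx, hx2, ⟨u, hu, hux⟩, ⟨a, ha, b, hb, hax, hbx, hab⟩, s, hs, hsx⟩ := hz
  refine ⟨m * x * m⁻¹, hmem x hx, ?_, ⟨_, hmem u hu, fun hh => hux ((Commute.conj_iff m).1 hh)⟩,
    ⟨_, hmem a ha, _, hmem b hb, (Commute.conj_iff m).2 hax, (Commute.conj_iff m).2 hbx,
      fun hh => hab ((Commute.conj_iff m).1 hh)⟩, m * s * m⁻¹, hmem s hs, ?_⟩
  · rw [show m * x * m⁻¹ * (m * x * m⁻¹) = m * (x * x) * m⁻¹ by group, hx2, mul_one, mul_inv_cancel]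
  · rw [show m * s * m⁻¹ * (m * x * m⁻¹) * (m * s * m⁻¹)⁻¹ = m * (s * x * s⁻¹) * m⁻¹ by group, hsx]
    group

theorem Two.good (h : Two P D₁ D₂ n₁ n₂ c₁ e₁ c₂ e₂) : Good P (cz n₁ c₁) := by
  obtain ⟨q, hq, -, hconj⟩ := h.d₁.exists_root
  have h2 := hconj 0
  rw [zpow_zero, one_mul] at h2
  exact ⟨e₁, h.split.le₁ h.d₁.emem, h.d₁.ee,
    ⟨c₁, h.split.le₁ h.d₁.cmem, fun hh => h.d₁.not_comm hh.symm⟩,
    ⟨e₂, h.split.le₂ h.d₂.emem, c₂, h.split.le₂ h.d₂.cmem,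
      (h.split.comm _ h.d₁.emem _ h.d₂.emem).symm, (h.split.comm _ h.d₁.emem _ h.d₂.cmem).symm,
      h.d₂.not_comm⟩, q, h.split.le₁ hq, h2⟩

theorem Two.not_good (h : Two P D₁ D₂ n₁ n₂ c₁ e₁ c₂ e₂) : ¬ Good P (cz n₁ c₁ * cz n₂ c₂) := by
  rintro ⟨x, hx, hx2, ⟨u, hu, hux⟩, ⟨p, hp, r, hr, hpx, hrx, hpr⟩, s, hs, hsx⟩
  obtain ⟨a, ha, b, hb, rfl, hac, hbc⟩ := h.invol_parts hx hx2
  obtain ⟨s₁, hs₁, s₂, hs₂, rfl⟩ := h.split.decomp hs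
  rw [h.split.conj_mul hb hs₁ hs₂ ha, h.split.mul_mul ha h.d₂.cz_mem] at hsx
  obtain ⟨e1, e2⟩ := h.split.uniq (mul_mem (mul_mem hs₁ ha) (inv_mem hs₁))
    (mul_mem h.d₁.cz_mem ha) (mul_mem (mul_mem hs₂ hb) (inv_mem hs₂))
    (mul_mem h.d₂.cz_mem hb) hsx
  rcases hac with rfl | rfl | ⟨i, rfl⟩
  · rw [mul_one, mul_inv_cancel, mul_one] at e1
    exact Invol.ne_one h.d₁.orderOf_cz e1.symm
  · rw [(h.d₁.cz_comm hs₁).eq, mul_inv_cancel_right, h.d₁.cz_sq] at e1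
    exact Invol.ne_one h.d₁.orderOf_cz e1
  rcases hbc with rfl | rfl | ⟨j, rfl⟩
  · rw [mul_one, mul_inv_cancel, mul_one] at e2
    exact Invol.ne_one h.d₂.orderOf_cz e2.symm
  · rw [(h.d₂.cz_comm hs₂).eq, mul_inv_cancel_right, h.d₂.cz_sq] at e2
    exact Invol.ne_one h.d₂.orderOf_cz e2
  · obtain ⟨p₁, hp₁, p₂, hp₂, rfl⟩ := h.split.decomp hp
    obtain ⟨r₁, hr₁, r₂, hr₂, rfl⟩ := h.split.decomp hr
    obtain ⟨q1, q2⟩ := h.split.commute_parts hp₁ ha hp₂ hb hpx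
    obtain ⟨q3, q4⟩ := h.split.commute_parts hr₁ ha hr₂ hb hrx
    exact hpr (h.split.commute_mul hp₁ hr₁ hp₂ hr₂ (h.d₁.commute_of_refl hp₁ hr₁ q1 q3)
      (h.d₂.commute_of_refl hp₂ hr₂ q2 q4))

theorem Two.z12_comm (h : Two P D₁ D₂ n₁ n₂ c₁ e₁ c₂ e₂) :
    cz n₂ c₂ * cz n₁ c₁ = cz n₁ c₁ * cz n₂ c₂ :=
  (h.split.comm _ h.d₁.cz_mem _ h.d₂.cz_mem).symm

variable [Finite G]

theorem Two.not_conj_z12 (h : Two P D₁ D₂ n₁ n₂ c₁ e₁ c₂ e₂) :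
    ¬ IsConj (cz n₁ c₁) (cz n₁ c₁ * cz n₂ c₂) := fun hc => by
  obtain ⟨m, hm, e⟩ := burnside h.z_central h.z12_central hc
  exact h.not_good (e ▸ h.good.conj hm)

theorem Two.not_conj_z12' (h : Two P D₁ D₂ n₁ n₂ c₁ e₁ c₂ e₂) :
    ¬ IsConj (cz n₂ c₂) (cz n₁ c₁ * cz n₂ c₂) := by
  rw [← h.z12_comm]; exact h.symm.not_conj_z12

theorem Two.not_conj (h : Two P D₁ D₂ n₁ n₂ c₁ e₁ c₂ e₂) :
    ¬ IsConj (cz n₁ c₁) (cz n₂ c₂) := fun hc => by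
  obtain ⟨m, hm, e⟩ := burnside h.z_central h.symm.z_central hc
  refine h.z_ne (odd_swap hm h.z_central e ?_)
  have hg : Good P (m * cz n₂ c₂ * m⁻¹) := h.symm.good.conj hm
  have hcen : ∀ p ∈ P, Commute p (m * cz n₂ c₂ * m⁻¹) := fun p hp => by
    have := (Commute.conj_iff m).2 (h.symm.z_central (m⁻¹ * p * m⁻¹⁻¹)
      ((mem_normalizer_iff.1 (inv_mem hm) p).1 hp))
    rwa [show m * (m⁻¹ * p * m⁻¹⁻¹) * m⁻¹ = p by group] at this
  rcases h.central_cases ((mem_normalizer_iff.1 hm _).1 h.symm.z_mem)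
    ((Invol.orderOf_conj m _).trans h.d₂.orderOf_cz) hcen with e' | e' | e'
  · exact e'
  · exact absurd (mul_left_cancel (mul_right_cancel (e.trans e'.symm))) h.z_ne
  · exact absurd (e' ▸ hg) h.not_good

theorem Two.isZ_eq (h : Two P D₁ D₂ n₁ n₂ c₁ e₁ c₂ e₂) {x : G} (hx : IsZ n₁ n₂ c₁ c₂ x)
    (hc : IsConj (cz n₁ c₁) x) : x = cz n₁ c₁ := by
  rcases hx with rfl | rfl | rfl
  · rfl
  · exact absurd hc h.not_conj
  · exact absurd hc h.not_conj_z12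

theorem Two.isZ_eq' (h : Two P D₁ D₂ n₁ n₂ c₁ e₁ c₂ e₂) {x : G} (hx : IsZ n₁ n₂ c₁ c₂ x)
    (hc : IsConj (cz n₂ c₂) x) : x = cz n₂ c₂ := by
  refine h.symm.isZ_eq ?_ hc
  rcases hx with hx | hx | hx
  · exact Or.inr (Or.inl hx)
  · exact Or.inl hx
  · exact Or.inr (Or.inr (hx.trans h.z12_comm.symm))

/-- A conjugation preserving enough of `P` fixes the second central involution. -/
theorem Two.fix_z₂ (h : Two P D₁ D₂ n₁ n₂ c₁ e₁ c₂ e₂) {g q : G} (hq2 : q * q = cz n₂ c₂)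
    (hq : g * q * g⁻¹ ∈ P) : g * cz n₂ c₂ * g⁻¹ = cz n₂ c₂ := by
  have e : g * cz n₂ c₂ * g⁻¹ = g * q * g⁻¹ * (g * q * g⁻¹) := by rw [← hq2]; group
  have ho : orderOf (g * q * g⁻¹ * (g * q * g⁻¹)) = 2 := by
    rw [← e, Invol.orderOf_conj]; exact h.d₂.orderOf_cz
  refine h.isZ_eq' ?_ (isConj_iff.2 ⟨g, rfl⟩)
  rw [e]
  exact h.sq_cases hq ho

/-- Each reflection is fused to the central involutions. -/
theorem Two.refl_central (h : Two P D₁ D₂ n₁ n₂ c₁ e₁ c₂ e₂)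
    (h2 : ∀ N : Subgroup G, N.Normal → N.index ≠ 2) (i : ℤ) :
    ∃ w, IsZ n₁ n₂ c₁ c₂ w ∧ w ∈ P ∧ (∀ p ∈ P, Commute p w) ∧ IsConj (c₁ ^ i * e₁) w := by
  set r := c₁ ^ i * e₁ with hr
  have hrD : r ∈ D₁ := h.d₁.refl_mem i
  have hrP : r ∈ P := h.split.le₁ hrD
  obtain ⟨hMi, hMmem⟩ := h.split.rot_relIndex h.d₁
  obtain ⟨w, hwM, hwP, hrw⟩ := fused_into h2 hMi hrP (h.d₁.refl_sq i)
  have hw2 : orderOf w = 2 := Invol.orderOf_eq_two_of_isConj hrw (h.d₁.orderOf_refl i)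
  obtain ⟨a, ha, b, hb, hab⟩ := hMmem w hwM
  have haD : a ∈ D₁ := zpowers_le.2 h.d₁.cmem ha
  obtain ⟨ha2, hb2⟩ := h.split.sq_parts haD hb (by rw [hab]; exact Invol.mul_self_eq_one hw2)
  have ha' : a = 1 ∨ a = cz n₁ c₁ := by
    by_cases h1 : a = 1
    · exact Or.inl h1
    · exact Or.inr (h.d₁.zpow_eq_cz_of_sq ha (Invol.orderOf_eq_two_iff.2 ⟨h1, ha2⟩))
  have hcen : ∀ b, (b = 1 ∨ b = cz n₂ c₂) → ∀ p ∈ P, Commute p (a * b) := fun b hb p hp => by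
    refine Commute.mul_right ?_ ?_
    · rcases ha' with rfl | rfl
      exacts [Commute.one_right p, h.z_central p hp]
    · rcases hb with rfl | rfl
      exacts [Commute.one_right p, h.symm.z_central p hp]
  rcases h.d₂.sq_one_cases hb hb2 with hb' | hb' | ⟨j, hbj⟩
  · subst hab
    exact ⟨_, h.isZ_of ha' (Or.inl hb') (Invol.ne_one hw2), hwP, hcen b (Or.inl hb'), hrw⟩
  · subst hab
    exact ⟨_, h.isZ_of ha' (Or.inr hb') (Invol.ne_one hw2), hwP, hcen b (Or.inr hb'), hrw⟩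
  -- now the class meets only non-central elements
  obtain ⟨y, hy, hext⟩ := exists_extremal P hrP
  obtain ⟨g, hg, hgP⟩ := hext r hrP (IsConj.refl r)
  have hy2 : orderOf y = 2 := by rw [← hg, Invol.orderOf_conj]; exact h.d₁.orderOf_refl i
  obtain ⟨y₁, hy₁, y₂, hy₂, hyy, hy₁c, hy₂c⟩ := h.invol_parts hy (Invol.mul_self_eq_one hy2)
  obtain ⟨q, hqD, hqq, -⟩ := h.d₂.exists_root
  have hqr : Commute q r := (h.split.comm r hrD q hqD).symm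
  have hgq := hgP q (h.split.le₂ hqD) hqr
  have hfix := h.fix_z₂ hqq hgq
  obtain ⟨p₁, hp₁, p₂, hp₂, hpe⟩ := h.split.decomp hgq
  have hpc : Commute (p₁ * p₂) (y₁ * y₂) := by
    rw [hpe, hyy, ← hg]
    exact (Commute.conj_iff g).2 hqr
  have hsq : p₁ * p₁ * (p₂ * p₂) = cz n₂ c₂ := by
    rw [← h.split.mul_mul hp₁ hp₂, hpe, ← hfix, ← hqq]
    group
  obtain ⟨hpc1, hpc2⟩ := h.split.commute_parts hp₁ hy₁ hp₂ hy₂ hpc
  rcases hy₂c with hy₂c | hy₂c | ⟨k, hy₂c⟩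
  rotate_left 2
  · exfalso
    obtain ⟨e1, e2⟩ := h.split.uniq (mul_mem hp₁ hp₁) (one_mem _) (mul_mem hp₂ hp₂) h.d₂.cz_mem
      (hsq.trans (one_mul _).symm)
    rw [hy₂c] at hpc2
    rcases h.d₂.commute_refl hp₂ hpc2 with e' | e' | e' | e'
    all_goals rw [e'] at e2
    · rw [one_mul] at e2; exact Invol.ne_one h.d₂.orderOf_cz e2.symm
    · rw [h.d₂.cz_sq] at e2; exact Invol.ne_one h.d₂.orderOf_cz e2.symm
    · rw [h.d₂.refl_sq] at e2; exact Invol.ne_one h.d₂.orderOf_cz e2.symm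
    · rw [(h.d₂.cz_comm (h.d₂.refl_mem k)).mul_mul_mul_comm, h.d₂.cz_sq, h.d₂.refl_sq, one_mul]
        at e2
      exact Invol.ne_one h.d₂.orderOf_cz e2.symm
  all_goals
    rcases hy₁c with hy₁c | hy₁c | ⟨k, hy₁c⟩
    rotate_left 2
    · -- the element `w` maps to `y`
      exfalso
      obtain ⟨g', hg', hg'P⟩ := hext w hwP hrw
      obtain ⟨q', hq'D, hq'q, -⟩ := h.d₁.exists_root
      have hq'w : Commute q' w := by
        rw [← hab]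
        refine Commute.mul_right ?_ (h.split.comm q' hq'D b hb)
        rcases ha' with rfl | rfl
        exacts [Commute.one_right q', h.d₁.cz_comm hq'D]
      have hgq' := hg'P q' (h.split.le₁ hq'D) hq'w
      have hfix' := h.symm.fix_z₂ hq'q hgq'
      obtain ⟨s₁, hs₁, s₂, hs₂, hse⟩ := h.split.decomp hgq'
      have hsc : Commute (s₁ * s₂) (y₁ * y₂) := by
        rw [hse, hyy, ← hg']
        exact (Commute.conj_iff g').2 hq'w
      have hsq' : s₁ * s₁ * (s₂ * s₂) = cz n₁ c₁ := by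
        rw [← h.split.mul_mul hs₁ hs₂, hse, ← hfix', ← hq'q]
        group
      obtain ⟨e1, -⟩ := h.split.uniq (mul_mem hs₁ hs₁) h.d₁.cz_mem (mul_mem hs₂ hs₂) (one_mem _)
        (hsq'.trans (mul_one _).symm)
      obtain ⟨hsc1, -⟩ := h.split.commute_parts hs₁ hy₁ hs₂ hy₂ hsc
      rw [hy₁c] at hsc1
      rcases h.d₁.commute_refl hs₁ hsc1 with e' | e' | e' | e'
      all_goals rw [e'] at e1
      · rw [one_mul] at e1; exact Invol.ne_one h.d₁.orderOf_cz e1.symm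
      · rw [h.d₁.cz_sq] at e1; exact Invol.ne_one h.d₁.orderOf_cz e1.symm
      · rw [h.d₁.refl_sq] at e1; exact Invol.ne_one h.d₁.orderOf_cz e1.symm
      · rw [(h.d₁.cz_comm (h.d₁.refl_mem k)).mul_mul_mul_comm, h.d₁.cz_sq, h.d₁.refl_sq, one_mul]
          at e1
        exact Invol.ne_one h.d₁.orderOf_cz e1.symm
  all_goals
    subst hyy
    refine ⟨_, h.isZ_of (by first | exact Or.inl hy₁c | exact Or.inr hy₁c)
      (by first | exact Or.inl hy₂c | exact Or.inr hy₂c) (Invol.ne_one hy2), hy, fun p hp => ?_,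
      isConj_iff.2 ⟨g, hg⟩⟩
    rw [hy₁c, hy₂c]
    refine Commute.mul_right ?_ ?_
    · first | exact Commute.one_right p | exact h.z_central p hp
    · first | exact Commute.one_right p | exact h.symm.z_central p hp

theorem Two.refl_fused (h : Two P D₁ D₂ n₁ n₂ c₁ e₁ c₂ e₂)
    (h2 : ∀ N : Subgroup G, N.Normal → N.index ≠ 2) (i : ℤ) :
    ∃ v, (v = 1 ∨ v = cz n₂ c₂) ∧ IsConj (cz n₁ c₁) (c₁ ^ i * e₁ * v) := by
  obtain ⟨w, hwZ, hwP, hwc, hrw⟩ := h.refl_central h2 i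
  set r := c₁ ^ i * e₁ with hr
  have hrD : r ∈ D₁ := h.d₁.refl_mem i
  obtain ⟨g, hg, hgP⟩ := to_central hwP hwc hrw
  obtain ⟨q, hqD, hqq, -⟩ := h.d₂.exists_root
  have hfix := h.fix_z₂ hqq (hgP q (h.split.le₂ hqD) (h.split.comm r hrD q hqD).symm)
  rcases hwZ with rfl | rfl | rfl
  · exact ⟨1, Or.inl rfl, by rw [mul_one]; exact hrw.symm⟩
  · exfalso
    have e : r = cz n₂ c₂ := mul_left_cancel (mul_right_cancel (hg.trans hfix.symm))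
    have hm : r ∈ D₁ ⊓ D₂ := ⟨hrD, e ▸ h.d₂.cz_mem⟩
    rw [h.split.disj, Subgroup.mem_bot] at hm
    exact h.d₁.refl_ne_one i hm
  · refine ⟨cz n₂ c₂, Or.inr rfl, (isConj_iff.2 ⟨g, ?_⟩ : IsConj (r * cz n₂ c₂) _).symm⟩
    rw [show g * (r * cz n₂ c₂) * g⁻¹ = g * r * g⁻¹ * (g * cz n₂ c₂ * g⁻¹) by group, hg, hfix,
      mul_assoc, h.d₂.cz_sq, mul_one]

/-- Twisting one factor. -/
theorem Two.exists_twist (h : Two P D₁ D₂ n₁ n₂ c₁ e₁ c₂ e₂)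
    (h2 : ∀ N : Subgroup G, N.Normal → N.index ≠ 2) :
    ∃ (R : Subgroup G) (c e : G), Dih R n₁ c e ∧ cz n₁ c = cz n₁ c₁ ∧
      (∀ x ∈ R, orderOf x = 2 → IsConj (cz n₁ c₁) x) ∧
      (∀ x ∈ R, ∃ a ∈ D₁, ∃ v, (v = 1 ∨ v = cz n₂ c₂) ∧ x = a * v) ∧
      D₁ ≤ R ⊔ zpowers (cz n₂ c₂) := by
  obtain ⟨v, hv, hve⟩ := h.refl_fused h2 0
  obtain ⟨w, hw, hwe⟩ := h.refl_fused h2 1
  rw [zpow_zero, one_mul] at hve
  rw [zpow_one] at hwe
  set z := cz n₂ c₂ with hz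
  have hgrp : ∀ v w, (v = 1 ∨ v = z) → (w = 1 ∨ w = z) → (v * w = 1 ∨ v * w = z) := by
    rintro v w (rfl | rfl) (rfl | rfl)
    exacts [Or.inl (one_mul 1), Or.inr (one_mul z), Or.inr (mul_one z), Or.inl h.d₂.cz_sq]
  have hD2 : ∀ v, (v = 1 ∨ v = z) → v ∈ D₂ := by
    rintro v (rfl | rfl)
    exacts [one_mem _, h.d₂.cz_mem]
  have hsq : ∀ v, (v = 1 ∨ v = z) → v * v = 1 := by
    rintro v (rfl | rfl)
    exacts [one_mul 1, h.d₂.cz_sq]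
  have hcomm : ∀ v, (v = 1 ∨ v = z) → ∀ x ∈ D₁, Commute v x := fun v hv x hx =>
    (h.split.comm x hx v (hD2 v hv)).symm
  set u := w * v with hu
  have hu' := hgrp w v hw hv
  have hnot : ∀ (i : ℤ) (t : G), t ∈ D₂ → c₁ ^ i * e₁ * t ∉ zpowers c₁ := fun i t ht hm => by
    have e := h.split.uniq (h.d₁.refl_mem i) (zpowers_le.2 h.d₁.cmem hm) ht (one_mem _)
      (mul_one _).symm
    rw [← e.1] at hm
    exact h.d₁.refl_notMem i hm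
  have hcc : ∀ a b, (a = 1 ∨ a = z) → (b = 1 ∨ b = z) → Commute a b := by
    rintro a b (rfl | rfl) (rfl | rfl)
    exacts [Commute.refl _, Commute.one_left _, Commute.one_right _, Commute.refl _]
  obtain ⟨hR, hcz⟩ := h.d₁.twist (u := u) (v := v) (hcomm u hu') (hcomm v hv)
    (hcc u v hu' hv)
    (hsq u hu') (hsq v hv) (fun i => hnot i v (hD2 v hv))
    (fun i => by rw [mul_assoc]; exact hnot i _ (mul_mem (hD2 v hv) (hD2 u hu')))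
  set R := closure ({c₁ * u, e₁ * v} : Set G) with hRdef
  refine ⟨R, _, _, hR, hcz, fun x hx hx2 => ?_, fun x hx => ?_, fun x hx => ?_⟩
  · rcases hR.invol_cases hx hx2 with rfl | ⟨i, rfl⟩
    · rw [hcz]
    · have hrot : ∀ j k : ℤ, IsConj ((c₁ * u) ^ k * (e₁ * v)) ((c₁ * u) ^ (k + 2 * j) * (e₁ * v)) :=
        fun j k => isConj_iff.2 ⟨_, hR.rot_conj_refl k j⟩
      rcases Int.even_or_odd i with ⟨j, rfl⟩ | ⟨j, rfl⟩
      · have := hrot j 0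
        rw [zero_add, two_mul, zpow_zero, one_mul] at this
        exact hve.trans this
      · have := hrot j 1
        rw [add_comm (1 : ℤ), zpow_one] at this
        refine IsConj.trans ?_ this
        rw [mul_assoc c₁ u, ← mul_assoc u, (hcomm u hu' e₁ h.d₁.emem).eq, mul_assoc e₁ u,
          ← mul_assoc c₁, hu, mul_assoc w v v, hsq v hv, mul_one]
        exact hwe
  · refine closure_induction (p := fun x _ => ∃ a ∈ D₁, ∃ v, (v = 1 ∨ v = z) ∧ x = a * v)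
      ?_ ⟨1, one_mem _, 1, Or.inl rfl, (one_mul 1).symm⟩ ?_ ?_ hx
    · rintro y (rfl | rfl)
      exacts [⟨c₁, h.d₁.cmem, u, hu', rfl⟩, ⟨e₁, h.d₁.emem, v, hv, rfl⟩]
    · rintro p q - - ⟨a, ha, s, hs, rfl⟩ ⟨b, hb, t, ht, rfl⟩
      exact ⟨a * b, mul_mem ha hb, s * t, hgrp s t hs ht, h.split.mul_mul hb (hD2 s hs)⟩
    · rintro p - ⟨a, ha, s, hs, rfl⟩
      refine ⟨a⁻¹, inv_mem ha, s, hs, ?_⟩
      rw [mul_inv_rev, inv_eq_of_mul_eq_one_right (hsq s hs), (hcomm s hs _ (inv_mem ha)).eq]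
  · have hzm : ∀ v, (v = 1 ∨ v = z) → v ∈ R ⊔ zpowers z := by
      rintro v (rfl | rfl)
      exacts [one_mem _, mem_sup_right (mem_zpowers _)]
    have hc : c₁ ∈ R ⊔ zpowers z := by
      have := mul_mem (mem_sup_left (T := zpowers z) hR.cmem) (inv_mem (hzm u hu'))
      rwa [mul_inv_cancel_right] at this
    have he : e₁ ∈ R ⊔ zpowers z := by
      have := mul_mem (mem_sup_left (T := zpowers z) hR.emem) (inv_mem (hzm v hv))
      rwa [mul_inv_cancel_right] at this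
    obtain ⟨i, rfl | rfl⟩ := h.d₁.cases' x hx
    exacts [zpow_mem hc i, mul_mem (zpow_mem hc i) he]

/-- Products of commuting involutions from the two factors, not both reflections. -/
theorem Two.single_mixed (h : Two P D₁ D₂ n₁ n₂ c₁ e₁ c₂ e₂)
    (hf₁ : ∀ x ∈ D₁, orderOf x = 2 → IsConj (cz n₁ c₁) x) {a : G} (ha : a ∈ D₁)
    (ha2 : orderOf a = 2) : IsConj (cz n₁ c₁ * cz n₂ c₂) (a * cz n₂ c₂) := by
  obtain ⟨g, hg, hgP⟩ := to_central h.z_mem h.z_central (hf₁ a ha ha2).symm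
  obtain ⟨q, hqD, hqq, -⟩ := h.d₂.exists_root
  have hfix := h.fix_z₂ hqq (hgP q (h.split.le₂ hqD) (h.split.comm a ha q hqD).symm)
  refine (isConj_iff.2 ⟨g, ?_⟩ : IsConj (a * cz n₂ c₂) _).symm
  rw [show g * (a * cz n₂ c₂) * g⁻¹ = g * a * g⁻¹ * (g * cz n₂ c₂ * g⁻¹) by group, hg, hfix]

/-- Fused factors contain their classes. -/
theorem Two.class_mem (h : Two P D₁ D₂ n₁ n₂ c₁ e₁ c₂ e₂)
    (hf₁ : ∀ x ∈ D₁, orderOf x = 2 → IsConj (cz n₁ c₁) x)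
    (hf₂ : ∀ x ∈ D₂, orderOf x = 2 → IsConj (cz n₂ c₂) x)
    {x : G} (hx : x ∈ P) (hc : IsConj (cz n₁ c₁) x) : x ∈ D₁ := by
  have hx2 := Invol.orderOf_eq_two_of_isConj hc h.d₁.orderOf_cz
  -- classification of the elements that are not products of two reflections
  have key : ∀ a ∈ D₁, ∀ b ∈ D₂, a * a = 1 → b * b = 1 → a ≠ 1 → b ≠ 1 →
      (a = cz n₁ c₁ ∨ b = cz n₂ c₂) → IsConj (cz n₁ c₁ * cz n₂ c₂) (a * b) := by
    intro a ha b hb ha2 hb2 ha1 hb1 hor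
    rcases hor with rfl | rfl
    · have := h.symm.single_mixed hf₂ hb (Invol.orderOf_eq_two_iff.2 ⟨hb1, hb2⟩)
      rw [h.z12_comm, ← h.split.comm _ h.d₁.cz_mem b hb] at this
      exact this
    · exact h.single_mixed hf₁ ha (Invol.orderOf_eq_two_iff.2 ⟨ha1, ha2⟩)
  obtain ⟨a, ha, b, hb, rfl⟩ := h.split.decomp hx
  obtain ⟨ha2, hb2⟩ := h.split.sq_parts ha hb (Invol.mul_self_eq_one hx2)
  by_cases hb1 : b = 1
  · rw [hb1, mul_one]; exact ha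
  exfalso
  by_cases ha1 : a = 1
  · subst ha1
    rw [one_mul] at hc
    exact h.not_conj (hc.trans (hf₂ b hb (Invol.orderOf_eq_two_iff.2 ⟨hb1, hb2⟩)).symm)
  by_cases hor : a = cz n₁ c₁ ∨ b = cz n₂ c₂
  · exact h.not_conj_z12 (hc.trans (key a ha b hb ha2 hb2 ha1 hb1 hor).symm)
  push Not at hor
  -- two reflections
  obtain ⟨g, hg, hgP⟩ := to_central h.z_mem h.z_central hc.symm
  have hbx : Commute b (a * b) :=
    Commute.mul_right (Commute.symm (h.split.comm a ha b hb)) (Commute.refl b)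
  have hp := hgP b (h.split.le₂ hb) hbx
  set p := g * b * g⁻¹ with hpdef
  have hpc : IsConj (cz n₂ c₂) p :=
    (hf₂ b hb (Invol.orderOf_eq_two_iff.2 ⟨hb1, hb2⟩)).trans (isConj_iff.2 ⟨g, rfl⟩)
  have hzp : IsConj (cz n₁ c₁) (cz n₁ c₁ * p) := by
    refine (hf₁ a ha (Invol.orderOf_eq_two_iff.2 ⟨ha1, ha2⟩)).trans (isConj_iff.2 ⟨g, ?_⟩)
    rw [← hg, hpdef, show g * (a * b) * g⁻¹ * (g * b * g⁻¹) = g * (a * (b * b)) * g⁻¹ by group,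
      hb2, mul_one]
  obtain ⟨p₁, hp₁, p₂, hp₂, hpe⟩ := h.split.decomp hp
  have hp2 := Invol.orderOf_eq_two_of_isConj hpc h.d₂.orderOf_cz
  obtain ⟨q1, q2⟩ := h.split.sq_parts hp₁ hp₂ (by rw [hpe]; exact Invol.mul_self_eq_one hp2)
  rw [← hpe] at hzp hpc
  by_cases h11 : p₁ = 1
  · subst h11
    rw [one_mul] at hzp hpc
    have h21 : p₂ ≠ 1 := fun e => Invol.ne_one hp2 (by rw [← hpe, e, one_mul])
    exact h.not_conj_z12 (hzp.trans (key _ h.d₁.cz_mem p₂ hp₂ h.d₁.cz_sq q2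
      (Invol.ne_one h.d₁.orderOf_cz) h21 (Or.inl rfl)).symm)
  by_cases h21 : p₂ = 1
  · subst h21
    rw [mul_one] at hpc
    exact h.not_conj ((hf₁ p₁ hp₁ (Invol.orderOf_eq_two_iff.2 ⟨h11, q1⟩)).trans hpc.symm)
  by_cases hor' : p₁ = cz n₁ c₁ ∨ p₂ = cz n₂ c₂
  · exact h.not_conj_z12' (hpc.trans (key p₁ hp₁ p₂ hp₂ q1 q2 h11 h21 hor').symm)
  push Not at hor'
  obtain ⟨i, rfl⟩ := ((h.d₁.sq_one_cases hp₁ q1).resolve_left h11).resolve_left hor'.1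
  obtain ⟨q, hqD, -, hqc⟩ := h.d₁.exists_root
  refine h.not_conj (hzp.trans ((isConj_iff.2 ⟨q, ?_⟩ : IsConj _ _).symm.trans hpc.symm))
  conv_rhs => rw [← mul_assoc]
  rw [show q * (c₁ ^ i * e₁ * p₂) * q⁻¹ =
    q * (c₁ ^ i * e₁) * q⁻¹ * (q * p₂ * q⁻¹) by group, hqc, h.split.comm q hqD p₂ hp₂,
    mul_inv_cancel_right]

/-- Two nonabelian dihedral factors give product fusion. -/
theorem Two.product_fusion (h : Two P D₁ D₂ n₁ n₂ c₁ e₁ c₂ e₂)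
    (h2 : ∀ N : Subgroup G, N.Normal → N.index ≠ 2) :
    ∃ R₁ R₂ : Subgroup G, Split P R₁ R₂ ∧
      (∃ m, 2 ≤ m ∧ Nonempty (↥R₁ ≃* DihedralGroup m)) ∧
      (∃ m, 2 ≤ m ∧ Nonempty (↥R₂ ≃* DihedralGroup m)) ∧
      Cfsg.IsStronglyClosed R₁ (P : Subgroup G) ∧ Cfsg.IsStronglyClosed R₂ (P : Subgroup G) := by
  obtain ⟨R₁, a₁, b₁, hd₁, hz₁, hf₁, hm₁, hs₁⟩ := h.exists_twist h2
  obtain ⟨R₂, a₂, b₂, hd₂, hz₂, hf₂, hm₂, hs₂⟩ := h.symm.exists_twist h2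
  have hzP : cz n₂ c₂ ∈ P := h.symm.z_mem
  have hle₁ : R₁ ≤ (P : Subgroup G) := fun x hx => by
    obtain ⟨a, ha, v, hv, rfl⟩ := hm₁ x hx
    rcases hv with rfl | rfl
    exacts [mul_mem (h.split.le₁ ha) (one_mem _), mul_mem (h.split.le₁ ha) hzP]
  have hle₂ : R₂ ≤ (P : Subgroup G) := fun x hx => by
    obtain ⟨a, ha, v, hv, rfl⟩ := hm₂ x hx
    rcases hv with rfl | rfl
    exacts [mul_mem (h.split.le₂ ha) (one_mem _), mul_mem (h.split.le₂ ha) h.z_mem]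
  have hcomm : ∀ x ∈ R₁, ∀ y ∈ R₂, x * y = y * x := by
    intro x hx y hy
    obtain ⟨a, ha, v, hv, rfl⟩ := hm₁ x hx
    obtain ⟨b, hb, w, hw, rfl⟩ := hm₂ y hy
    have hvc : ∀ p ∈ P, Commute p v := fun p hp => by
      rcases hv with rfl | rfl
      exacts [Commute.one_right p, h.symm.z_central p hp]
    have hwc : ∀ p ∈ P, Commute p w := fun p hp => by
      rcases hw with rfl | rfl
      exacts [Commute.one_right p, h.z_central p hp]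
    have hvP : v ∈ P := by
      rcases hv with rfl | rfl
      exacts [one_mem _, hzP]
    have hab : Commute a b := h.split.comm a ha b hb
    exact ((hab.mul_right (hwc a (h.split.le₁ ha))).mul_left
      ((hvc b (h.split.le₂ hb)).symm.mul_right (hwc v hvP))).eq
  have hdisj : R₁ ⊓ R₂ = ⊥ := by
    refine (eq_bot_iff_forall _).2 fun x hx => ?_
    have hc1 : x = 1 ∨ x = cz n₁ a₁ :=
      hd₁.center_cases hx.1 fun y hy => (hcomm y hy x hx.2).symm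
    have hc2 : x = 1 ∨ x = cz n₂ a₂ := hd₂.center_cases hx.2 fun y hy => hcomm x hx.1 y hy
    rcases hc1 with e | e
    · exact e
    rcases hc2 with e' | e'
    · exact e'
    exact absurd (hz₁ ▸ hz₂ ▸ e.symm.trans e') h.z_ne
  have hsup : R₁ ⊔ R₂ = (P : Subgroup G) := by
    refine le_antisymm (sup_le hle₁ hle₂) (h.split.sup.ge.trans (sup_le ?_ ?_))
    · refine hs₁.trans (sup_le le_sup_left (zpowers_le.2 (mem_sup_right ?_)))
      exact hz₂ ▸ hd₂.cz_mem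
    · refine hs₂.trans (sup_le le_sup_right (zpowers_le.2 (mem_sup_left ?_)))
      exact hz₁ ▸ hd₁.cz_mem
  have hsplit : Split P R₁ R₂ := ⟨hle₁, hle₂, hcomm, hdisj, hsup⟩
  have hnew : Two P R₁ R₂ n₁ n₂ a₁ b₁ a₂ b₂ := ⟨hsplit, hd₁, hd₂⟩
  rw [← hz₁] at hf₁
  rw [← hz₂] at hf₂
  refine ⟨R₁, R₂, hsplit, ⟨_, ?_, hd₁.equiv⟩, ⟨_, ?_, hd₂.equiv⟩,
    sc_of_class hsplit hd₁ hf₁ fun x hx hc => hnew.class_mem hf₁ hf₂ hx hc,
    sc_of_class hsplit.symm hd₂ hf₂ fun x hx hc => hnew.symm.class_mem hf₂ hf₁ hx hc⟩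
  · exact le_trans (by norm_num) (Nat.pow_le_pow_right (by norm_num : 2 > 0)
      (show 1 ≤ n₁ + 2 by omega))
  · exact le_trans (by norm_num) (Nat.pow_le_pow_right (by norm_num : 2 > 0)
      (show 1 ≤ n₂ + 2 by omega))

end Cfsg.Agent.DihProd
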