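import Cfsg.Agent.DihProd.Common
import Mathlib.GroupTheory.SpecificGroups.KleinFour

/-!
Sylow 2-subgroup the product of a nonabelian dihedral group and a four group.
-/

set_option autoImplicit false
set_option linter.style.haveILetI false

namespace Cfsg.Agent.DihProd

open Subgroup

variable {G : Type*} [Group G] {P : Sylow 2 G} {D V : Subgroup G} {n : ℕ} {c e : G}

/-- A dihedral factor and a four group. -/
structure Mixed (P : Sylow 2 G) (D V : Subgroup G) (n : ℕ) (c e : G) : Prop where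
  split : Split P D V
  d : Dih D n c e
  sq : ∀ v ∈ V, v * v = 1
  card : Nat.card ↥V = 4

/-- Central of order at most two. -/
def IsC (V : Subgroup G) (n : ℕ) (c x : G) : Prop := ∃ v ∈ V, x = v ∨ x = cz n c * v

/-- Not central, of order two. -/
def IsOut (V : Subgroup G) (c e x : G) : Prop := ∃ i : ℤ, ∃ v ∈ V, x = c ^ i * e * v

theorem Mixed.four (h : Mixed P D V n c e) {v w b : G} (hv : v ∈ V) (hw : w ∈ V) (hv1 : v ≠ 1)
    (hw1 : w ≠ 1) (hvw : v ≠ w) (hb : b ∈ V) : b = 1 ∨ b = v ∨ b = w ∨ b = v * w := by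
  classical
  haveI : Finite ↥V := Nat.finite_of_card_ne_zero (by rw [h.card]; norm_num)
  let s : Finset ↥V := {1, ⟨v, hv⟩, ⟨w, hw⟩, ⟨v * w, mul_mem hv hw⟩}
  have hvi : v⁻¹ = v := inv_eq_of_mul_eq_one_right (h.sq v hv)
  have hs : s.card = 4 := by
    have e1 : v * w ≠ 1 := fun e => hvw (by rw [← hvi]; exact inv_eq_of_mul_eq_one_right e)
    have e2 : v * w ≠ v := fun e => hw1 (mul_eq_left.1 e)
    have e3 : v * w ≠ w := fun e => hv1 (mul_eq_right.1 e)
    simp [s, Subtype.ext_iff, hv1.symm, hw1.symm, hvw, e1.symm, e2.symm, e3.symm]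
  haveI : Fintype ↥V := Fintype.ofFinite _
  have hu : s = Finset.univ := Finset.eq_univ_of_card _ (by rw [hs, ← h.card, Nat.card_eq_fintype_card])
  have hm : (⟨b, hb⟩ : ↥V) ∈ s := by rw [hu]; exact Finset.mem_univ _
  simpa [s, Subtype.ext_iff] using hm

theorem Mixed.exists_ne (h : Mixed P D V n c e) {a : G} :
    ∃ w ∈ V, w ≠ 1 ∧ w ≠ a := by
  by_contra hne
  push Not at hne
  have hle : (V : Set G) ⊆ {1, a} := fun w hw => by
    by_cases h1 : w = 1
    · exact Or.inl h1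
    · exact Or.inr (hne w hw h1)
  have hc : Nat.card ↥V ≤ 2 :=
    (Nat.card_mono ((Set.finite_singleton a).insert 1) hle).trans (by
      rw [Nat.card_coe_set_eq]
      exact (Set.ncard_insert_le _ _).trans (by rw [Set.ncard_singleton]))
  rw [h.card] at hc
  omega

theorem Mixed.v_comm (h : Mixed P D V n c e) {v w : G} (hv : v ∈ V) (hw : w ∈ V) : Commute v w := by
  show v * w = w * v
  have := h.sq _ (mul_mem hv hw)
  rw [← inv_eq_of_mul_eq_one_right this, mul_inv_rev, inv_eq_of_mul_eq_one_right (h.sq v hv),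
    inv_eq_of_mul_eq_one_right (h.sq w hw)]

theorem Mixed.v_central (h : Mixed P D V n c e) {v p : G} (hv : v ∈ V) (hp : p ∈ P) :
    Commute p v := by
  obtain ⟨a, ha, b, hb, rfl⟩ := h.split.decomp hp
  exact Commute.mul_left (h.split.comm a ha v hv) (h.v_comm hb hv)

theorem Mixed.z_central (h : Mixed P D V n c e) : ∀ p ∈ P, Commute p (cz n c) := by
  intro p hp
  obtain ⟨a, ha, b, hb, rfl⟩ := h.split.decomp hp
  exact (h.d.cz_comm ha).mul_left (Commute.symm (h.split.comm _ h.d.cz_mem b hb))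

theorem Mixed.z_mem (h : Mixed P D V n c e) : cz n c ∈ P := h.split.le₁ h.d.cz_mem

theorem Mixed.isC_one (_h : Mixed P D V n c e) : IsC V n c 1 := ⟨1, one_mem _, Or.inl rfl⟩

theorem Mixed.isC_z (_h : Mixed P D V n c e) : IsC V n c (cz n c) :=
  ⟨1, one_mem _, Or.inr (mul_one _).symm⟩

theorem Mixed.isC_v (_h : Mixed P D V n c e) {v : G} (hv : v ∈ V) : IsC V n c v :=
  ⟨v, hv, Or.inl rfl⟩

theorem Mixed.isC_mem (h : Mixed P D V n c e) {x : G} (hx : IsC V n c x) : x ∈ P := by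
  obtain ⟨v, hv, rfl | rfl⟩ := hx
  exacts [h.split.le₂ hv, h.split.mem h.d.cz_mem hv]

theorem Mixed.isC_central (h : Mixed P D V n c e) {x : G} (hx : IsC V n c x) :
    ∀ p ∈ P, Commute p x := by
  intro p hp
  obtain ⟨v, hv, rfl | rfl⟩ := hx
  exacts [h.v_central hv hp, (h.z_central p hp).mul_right (h.v_central hv hp)]

theorem Mixed.zz (h : Mixed P D V n c e) (x : G) : cz n c * (cz n c * x) = x := by
  rw [← mul_assoc, h.d.cz_sq, one_mul]

theorem Mixed.isC_zmul (h : Mixed P D V n c e) {x : G} (hx : IsC V n c x) :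
    IsC V n c (cz n c * x) := by
  obtain ⟨v, hv, rfl | rfl⟩ := hx
  exacts [⟨_, hv, Or.inr rfl⟩, ⟨_, hv, Or.inl (h.zz v)⟩]

theorem Mixed.isC_mul (h : Mixed P D V n c e) {x y : G} (hx : IsC V n c x) (hy : IsC V n c y) :
    IsC V n c (x * y) := by
  obtain ⟨v, hv, h₁⟩ := hx
  obtain ⟨w, hw, h₂⟩ := hy
  rcases h₁ with h₁ | h₁ <;> rcases h₂ with h₂ | h₂ <;> rw [h₁, h₂]
  · exact h.isC_v (mul_mem hv hw)
  · rw [← mul_assoc, (h.z_central v (h.split.le₂ hv)).eq, mul_assoc]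
    exact h.isC_zmul (h.isC_v (mul_mem hv hw))
  · rw [mul_assoc]
    exact h.isC_zmul (h.isC_v (mul_mem hv hw))
  · rw [mul_assoc, ← mul_assoc v, (h.z_central v (h.split.le₂ hv)).eq, mul_assoc, h.zz]
    exact h.isC_v (mul_mem hv hw)

theorem Mixed.isC_sq (h : Mixed P D V n c e) {x : G} (hx : IsC V n c x) : x * x = 1 := by
  obtain ⟨v, hv, h₁ | h₁⟩ := hx <;> rw [h₁]
  · exact h.sq v hv
  · rw [h.split.mul_mul h.d.cz_mem hv, h.d.cz_sq, h.sq v hv, one_mul]

theorem Mixed.out_not_central (h : Mixed P D V n c e) {x : G} (hx : IsOut V c e x) :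
    ¬ Commute c x := by
  rintro hc
  obtain ⟨i, v, hv, rfl⟩ := hx
  obtain ⟨h1, -⟩ := h.split.commute_parts h.d.cmem (h.d.refl_mem i) (one_mem _) hv
    (by rw [mul_one]; exact hc)
  rcases h.d.commute_refl h.d.cmem h1 with e' | e' | e' | e'
  · exact h.d.en (by
      have := h.d.oc
      rw [e', orderOf_one] at this
      exact absurd this.symm (Nat.one_lt_two_pow (by omega)).ne')
  · have := h.d.oc
    nth_rewrite 1 [e'] at this
    rw [h.d.orderOf_cz, pow_succ] at this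
    have : 1 < 2 ^ (n + 1) := Nat.one_lt_two_pow (by omega)
    omega
  · exact h.d.refl_notMem i (e' ▸ mem_zpowers c)
  · refine h.d.refl_notMem i ?_
    have e2 : c ^ i * e = cz n c * c :=
      calc c ^ i * e = cz n c * (cz n c * (c ^ i * e)) := (h.zz _).symm
        _ = cz n c * c := congrArg (cz n c * ·) e'.symm
    rw [e2]
    exact mul_mem Dih.cz_mem_zpowers (mem_zpowers c)

theorem Mixed.isC_not_out (h : Mixed P D V n c e) {x : G} (hx : IsC V n c x) :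
    ¬ IsOut V c e x := fun ho =>
  h.out_not_central ho (h.isC_central hx c (h.split.le₁ h.d.cmem))

theorem Mixed.out_mem (h : Mixed P D V n c e) {x : G} (hx : IsOut V c e x) : x ∈ P := by
  obtain ⟨i, v, hv, rfl⟩ := hx
  exact h.split.mem (h.d.refl_mem i) hv

theorem Mixed.out_sq (h : Mixed P D V n c e) {x : G} (hx : IsOut V c e x) : x * x = 1 := by
  obtain ⟨i, v, hv, rfl⟩ := hx
  rw [h.split.mul_mul (h.d.refl_mem i) hv, h.d.refl_sq, h.sq v hv, one_mul]

theorem Mixed.cases_sq (h : Mixed P D V n c e) {x : G} (hx : x ∈ P) (h2 : x * x = 1) :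
    IsC V n c x ∨ IsOut V c e x := by
  obtain ⟨a, ha, b, hb, rfl⟩ := h.split.decomp hx
  obtain ⟨ha2, -⟩ := h.split.sq_parts ha hb h2
  by_cases h1 : a = 1
  · subst h1; rw [one_mul]; exact Or.inl (h.isC_v hb)
  rcases h.d.invol_cases ha (Invol.orderOf_eq_two_iff.2 ⟨h1, ha2⟩) with rfl | ⟨i, rfl⟩
  · exact Or.inl (h.isC_zmul (h.isC_v hb))
  · exact Or.inr ⟨i, b, hb, rfl⟩

theorem Mixed.out_mul (h : Mixed P D V n c e) {x y : G} (hx : IsOut V c e x) (hy : IsOut V c e y)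
    (hc : Commute x y) : IsC V n c (x * y) := by
  obtain ⟨i, v, hv, rfl⟩ := hx
  obtain ⟨j, w, hw, rfl⟩ := hy
  obtain ⟨h1, -⟩ := h.split.commute_parts (h.d.refl_mem i) (h.d.refl_mem j) hv hw hc
  rw [h.split.mul_mul (h.d.refl_mem j) hv]
  rcases h.d.commute_refls h1 with e' | e'
  · rw [e', h.d.refl_sq, one_mul]; exact h.isC_v (mul_mem hv hw)
  · rw [e', mul_assoc (cz n c), h.d.refl_sq, mul_one]; exact h.isC_zmul (h.isC_v (mul_mem hv hw))

theorem Mixed.z_refl (_h : Mixed P D V n c e) (i : ℤ) :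
    cz n c * (c ^ i * e) = c ^ (((2 ^ (n + 1) : ℕ) : ℤ) + i) * e := by
  rw [zpow_add, zpow_natCast, cz, ← mul_assoc]

theorem Mixed.z_out (h : Mixed P D V n c e) {x : G} (hx : IsOut V c e x) :
    IsOut V c e (cz n c * x) := by
  obtain ⟨i, v, hv, rfl⟩ := hx
  exact ⟨_, v, hv, by rw [← mul_assoc, h.z_refl]⟩

theorem Mixed.z_partner (h : Mixed P D V n c e) {x : G} (hx : IsOut V c e x) :
    IsConj x (cz n c * x) := by
  obtain ⟨i, v, hv, rfl⟩ := hx
  obtain ⟨q, hq, -, hqc⟩ := h.d.exists_root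
  refine isConj_iff.2 ⟨q, ?_⟩
  rw [show q * (c ^ i * e * v) * q⁻¹ = q * (c ^ i * e) * q⁻¹ * (q * v * q⁻¹) by group, hqc,
    h.split.comm q hq v hv, mul_inv_cancel_right, mul_assoc (cz n c)]

/-- The square involution is fixed by the normalizer. -/
theorem Mixed.fix_z (h : Mixed P D V n c e) {m : G}
    (hm : m ∈ normalizer ((P : Subgroup G) : Set G)) : m * cz n c * m⁻¹ = cz n c := by
  obtain ⟨q, hq, hqq, -⟩ := h.d.exists_root
  obtain ⟨a, ha, b, hb, hab⟩ :=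
    h.split.decomp ((mem_normalizer_iff.1 hm q).1 (h.split.le₁ hq))
  have e1 : m * cz n c * m⁻¹ = a * a := by
    rw [← hqq, show m * (q * q) * m⁻¹ = m * q * m⁻¹ * (m * q * m⁻¹) by group, ← hab,
      h.split.mul_mul ha hb, h.sq b hb, mul_one]
  rw [e1]
  exact h.d.zpow_eq_cz_of_sq (h.d.sq_mem ha)
    (by rw [← e1, Invol.orderOf_conj]; exact h.d.orderOf_cz)

variable [Finite G]

theorem Mixed.eq_z (h : Mixed P D V n c e) {s : G} (hs : IsC V n c s) (hc : IsConj (cz n c) s) :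
    s = cz n c := by
  obtain ⟨m, hm, e'⟩ := burnside h.z_central (h.isC_central hs) hc
  rw [← e', h.fix_z hm]

theorem Mixed.no_flip (h : Mixed P D V n c e) {w : G} (hw : IsC V n c w) :
    ¬ IsConj w (cz n c * w) := fun hc => by
  obtain ⟨m, hm, e'⟩ := burnside (h.isC_central hw) (h.isC_central (h.isC_zmul hw)) hc
  have e2 : m * (cz n c * w) * m⁻¹ = w := by
    rw [show m * (cz n c * w) * m⁻¹ = m * cz n c * m⁻¹ * (m * w * m⁻¹) by group, h.fix_z hm, e',
      h.zz]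
  exact Invol.ne_one h.d.orderOf_cz
    (mul_eq_right.1 (odd_swap hm (h.isC_central hw) e' e2).symm)

theorem Mixed.out_central (h : Mixed P D V n c e)
    (h2 : ∀ N : Subgroup G, N.Normal → N.index ≠ 2) {x : G} (hx : IsOut V c e x) :
    ∃ s, IsC V n c s ∧ IsConj x s := by
  obtain ⟨hMi, hMmem⟩ := h.split.rot_relIndex h.d
  obtain ⟨y, hyM, hyP, hxy⟩ := fused_into h2 hMi (h.out_mem hx) (h.out_sq hx)
  obtain ⟨k, hk⟩ := isConj_iff.1 hxy
  have hy2 : y * y = 1 := by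
    rw [← hk, show k * x * k⁻¹ * (k * x * k⁻¹) = k * (x * x) * k⁻¹ by group, h.out_sq hx,
      mul_one, mul_inv_cancel]
  rcases h.cases_sq hyP hy2 with hC | hO
  · exact ⟨y, hC, hxy⟩
  · exfalso
    obtain ⟨a, ha, b, hb, hab⟩ := hMmem y hyM
    obtain ⟨i, v, hv, hyv⟩ := hO
    have e' := h.split.uniq (zpowers_le.2 h.d.cmem ha) (h.d.refl_mem i) hb hv (hab.trans hyv)
    exact h.d.refl_notMem i (e'.1 ▸ ha)

/-- The conjugation carrying a noncentral involution to the centre. -/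
theorem Mixed.exists_map (h : Mixed P D V n c e) {x s : G} (hx : IsOut V c e x)
    (hs : IsC V n c s) (hxs : IsConj x s) :
    ∃ g : G, g * x * g⁻¹ = s ∧ ¬ IsC V n c (g * cz n c * g⁻¹) ∧
      ∀ u ∈ P, u * u = 1 → Commute u x →
        IsC V n c (g * u * g⁻¹) ∨ IsC V n c (g * (cz n c * u) * g⁻¹) := by
  obtain ⟨g, hg, hgP⟩ := to_central (h.isC_mem hs) (h.isC_central hs) hxs
  have hzx : Commute (cz n c) x := (h.z_central x (h.out_mem hx)).symm
  have hnc : ¬ IsC V n c (g * cz n c * g⁻¹) := by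
    intro hC
    have e1 := h.eq_z hC (isConj_iff.2 ⟨g, rfl⟩)
    refine h.no_flip hs (hxs.symm.trans ((h.z_partner hx).trans (isConj_iff.2 ⟨g, ?_⟩)))
    rw [show g * (cz n c * x) * g⁻¹ = g * cz n c * g⁻¹ * (g * x * g⁻¹) by group, e1, hg]
  refine ⟨g, hg, hnc, fun u hu hu2 hux => ?_⟩
  have hgu : g * u * g⁻¹ * (g * u * g⁻¹) = 1 := by
    rw [show g * u * g⁻¹ * (g * u * g⁻¹) = g * (u * u) * g⁻¹ by group, hu2, mul_one,
      mul_inv_cancel]
  rcases h.cases_sq (hgP u hu hux) hgu with hC | hO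
  · exact Or.inl hC
  · refine Or.inr ?_
    have hzo := (h.cases_sq (hgP _ h.z_mem hzx) (by
      rw [show g * cz n c * g⁻¹ * (g * cz n c * g⁻¹) = g * (cz n c * cz n c) * g⁻¹ by group,
        h.d.cz_sq, mul_one, mul_inv_cancel])).resolve_left hnc
    have := h.out_mul hzo hO ((Commute.conj_iff g).2 (h.z_central u hu).symm)
    rwa [show g * (cz n c * u) * g⁻¹ = g * cz n c * g⁻¹ * (g * u * g⁻¹) by group]

/-- Each kind of noncentral involution meets the class of the square involution. -/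
theorem Mixed.exists_twist_val (h : Mixed P D V n c e)
    (h2 : ∀ N : Subgroup G, N.Normal → N.index ≠ 2) (i : ℤ) :
    ∃ v ∈ V, IsConj (cz n c) (c ^ i * e * v) := by
  have hx : IsOut V c e (c ^ i * e) := ⟨i, 1, one_mem _, (mul_one _).symm⟩
  obtain ⟨s, hs, hxs⟩ := h.out_central h2 hx
  obtain ⟨g, hg, hnc, hgu⟩ := h.exists_map hx hs hxs
  have hcomm : ∀ w, IsC V n c w → Commute w (c ^ i * e) :=
    fun w hw => (h.isC_central hw _ (h.out_mem hx)).symm
  have key : ∀ v : ↥V, ∃ b : ↥V, ∃ v', (v' = (v : G) ∨ v' = cz n c * v) ∧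
      (g * v' * g⁻¹ = b ∨ g * v' * g⁻¹ = cz n c * b) := by
    intro v
    rcases hgu v (h.split.le₂ v.2) (h.sq v v.2) (hcomm _ (h.isC_v v.2)) with hC | hC
    · obtain ⟨b, hb, hb'⟩ := hC; exact ⟨⟨b, hb⟩, _, Or.inl rfl, hb'⟩
    · obtain ⟨b, hb, hb'⟩ := hC; exact ⟨⟨b, hb⟩, _, Or.inr rfl, hb'⟩
  choose σ w hw hσ using key
  have hwC : ∀ v : ↥V, IsC V n c (w v) := fun v => by
    rcases hw v with e' | e' <;> rw [e']
    exacts [h.isC_v v.2, h.isC_zmul (h.isC_v v.2)]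
  have hinj : Function.Injective σ := by
    intro v₁ v₂ he
    have hval : ∀ v : ↥V, (g * w v * g⁻¹) = (σ v : G) ∨ (g * w v * g⁻¹) = cz n c * σ v := hσ
    have hprod : g * (w v₁ * w v₂) * g⁻¹ = 1 ∨ g * (w v₁ * w v₂) * g⁻¹ = cz n c := by
      rw [show g * (w v₁ * w v₂) * g⁻¹ = g * w v₁ * g⁻¹ * (g * w v₂ * g⁻¹) by group]
      have hb := h.sq _ (σ v₂).2
      have hbz : Commute (σ v₂ : G) (cz n c) := h.z_central _ (h.split.le₂ (σ v₂).2)
      rcases hval v₁ with e1 | e1 <;> rcases hval v₂ with e2 | e2 <;> rw [e1, e2, he]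
      · exact Or.inl hb
      · right; rw [← mul_assoc, hbz.eq, mul_assoc, hb, mul_one]
      · right; rw [mul_assoc, hb, mul_one]
      · left; rw [mul_assoc, ← mul_assoc (σ v₂ : G), hbz.eq, mul_assoc, h.zz, hb]
    have hz : w v₁ * w v₂ = 1 := by
      rcases hprod with e' | e'
      · exact conj_eq_one_iff.1 e'
      · exfalso
        have hcj : IsConj (cz n c) (w v₁ * w v₂) := (isConj_iff.2 ⟨g, e'⟩).symm
        have e3 := h.eq_z (h.isC_mul (hwC v₁) (hwC v₂)) hcj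
        rw [e3] at e'
        exact hnc (by rw [e']; exact h.isC_z)
    have hz' : w v₁ = w v₂ := by
      rw [← inv_eq_of_mul_eq_one_right hz]
      exact (inv_eq_of_mul_eq_one_right (h.isC_sq (hwC v₁))).symm
    have hd : ∀ v : ↥V, ∃ a ∈ D, a * (v : G) = w v := fun v => by
      rcases hw v with e' | e' <;> rw [e']
      exacts [⟨1, one_mem _, one_mul _⟩, ⟨_, h.d.cz_mem, rfl⟩]
    obtain ⟨a₁, ha₁, e1⟩ := hd v₁
    obtain ⟨a₂, ha₂, e2⟩ := hd v₂
    exact Subtype.ext (h.split.uniq ha₁ ha₂ v₁.2 v₂.2 (by rw [e1, e2, hz'])).2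
  obtain ⟨b, hb, hsb⟩ := hs
  obtain ⟨v, hv⟩ := (Finite.injective_iff_surjective.1 hinj) ⟨b, hb⟩
  have hgw := hσ v
  rw [hv] at hgw
  have hbz : Commute b (cz n c) := h.z_central _ (h.split.le₂ hb)
  have hxv : g * (c ^ i * e * w v) * g⁻¹ = 1 ∨ g * (c ^ i * e * w v) * g⁻¹ = cz n c := by
    rw [show g * (c ^ i * e * w v) * g⁻¹ = g * (c ^ i * e) * g⁻¹ * (g * w v * g⁻¹) by group, hg]
    rcases hsb with e1 | e1 <;> rcases hgw with e2 | e2 <;> rw [e1, e2]
    · exact Or.inl (h.sq b hb)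
    · right; show b * (cz n c * b) = _; rw [← mul_assoc, hbz.eq, mul_assoc, h.sq b hb, mul_one]
    · right; show cz n c * b * b = _; rw [mul_assoc, h.sq b hb, mul_one]
    · left; show cz n c * b * (cz n c * b) = _
      rw [mul_assoc, ← mul_assoc b, hbz.eq, mul_assoc, h.zz, h.sq b hb]
  rcases hxv with e' | e'
  · exfalso
    have e3 : c ^ i * e = w v := by
      rw [eq_inv_of_mul_eq_one_left (conj_eq_one_iff.1 e'),
        inv_eq_of_mul_eq_one_right (h.isC_sq (hwC v))]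
    exact h.isC_not_out (hwC v) (e3 ▸ hx)
  have hcj : IsConj (cz n c) (c ^ i * e * w v) := (isConj_iff.2 ⟨g, e'⟩).symm
  refine ⟨v, v.2, ?_⟩
  rcases hw v with e4 | e4 <;> rw [e4] at hcj
  · exact hcj
  · refine hcj.trans ?_
    have hp := h.z_partner (x := c ^ i * e * (v : G)) ⟨i, v, v.2, rfl⟩
    rw [show c ^ i * e * (cz n c * (v : G)) = cz n c * (c ^ i * e * v) by
      rw [← mul_assoc, (h.d.cz_comm (h.d.refl_mem i)).eq, mul_assoc]]
    exact hp.symm

/-- Only one element of each coset is fused to the square involution. -/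
theorem Mixed.twist_unique (h : Mixed P D V n c e) {i : ℤ} {v v' : G} (hv : v ∈ V) (hv' : v' ∈ V)
    (h1 : IsConj (cz n c) (c ^ i * e * v)) (h1' : IsConj (cz n c) (c ^ i * e * v')) : v = v' := by
  set x := c ^ i * e * v with hx
  set y := c ^ i * e * v' with hy
  have hxo : IsOut V c e x := ⟨i, v, hv, rfl⟩
  have hyo : IsOut V c e y := ⟨i, v', hv', rfl⟩
  obtain ⟨g, hg, -, hgu⟩ := h.exists_map hxo h.isC_z h1.symm
  have hyx : Commute y x :=
    h.split.commute_mul (h.d.refl_mem i) (h.d.refl_mem i) hv' hv (Commute.refl _) (h.v_comm hv' hv)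
  rcases hgu y (h.out_mem hyo) (h.out_sq hyo) hyx with hC | hC
  · have e1 := h.eq_z hC (h1'.trans (isConj_iff.2 ⟨g, rfl⟩))
    exact (mul_left_cancel (mul_left_cancel (mul_right_cancel (e1.trans hg.symm)))).symm
  · have e1 := h.eq_z hC
      ((h1'.trans (h.z_partner hyo)).trans (isConj_iff.2 ⟨g, rfl⟩))
    have e2 : cz n c * (c ^ i * e) * v' = c ^ i * e * v := by
      rw [mul_assoc]; exact mul_left_cancel (mul_right_cancel (e1.trans hg.symm))
    exact (h.split.uniq (mul_mem h.d.cz_mem (h.d.refl_mem i)) (h.d.refl_mem i) hv' hv e2).2.symm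

/-- The correction for each reflection. -/
theorem Mixed.exists_r (h : Mixed P D V n c e)
    (h2 : ∀ N : Subgroup G, N.Normal → N.index ≠ 2) :
    ∃ r : ℤ → G, (∀ i, r i ∈ V) ∧ (∀ i, IsConj (cz n c) (c ^ i * e * r i)) ∧
      ∀ x ∈ P, IsConj (cz n c) x → x = cz n c ∨ ∃ i, x = c ^ i * e * r i := by
  choose r hr hrc using h.exists_twist_val h2
  refine ⟨r, hr, hrc, fun x hx hc => ?_⟩
  have hx2 := Invol.mul_self_eq_one (Invol.orderOf_eq_two_of_isConj hc h.d.orderOf_cz)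
  rcases h.cases_sq hx hx2 with hC | ⟨i, v, hv, rfl⟩
  · exact Or.inl (h.eq_z hC hc)
  · exact Or.inr ⟨i, by rw [h.twist_unique hv (hr i) hc (hrc i)]⟩

omit [Finite G] in
/-- Reduction of the exponent to two values. -/
theorem Mixed.reduce (h : Mixed P D V n c e) (i : ℤ) {v : G} (hv : v ∈ V) :
    ∃ k : ℤ, (k = 0 ∨ k = 1) ∧ ∃ p ∈ P, p * (c ^ i * e * v) * p⁻¹ = c ^ k * e * v := by
  rcases Int.even_or_odd i with ⟨j, rfl⟩ | ⟨j, rfl⟩
  · refine ⟨0, Or.inl rfl, c ^ (-j), h.split.le₁ (zpow_mem h.d.cmem _), ?_⟩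
    rw [show c ^ (-j) * (c ^ (j + j) * e * v) * (c ^ (-j))⁻¹ =
      c ^ (-j) * (c ^ (j + j) * e) * (c ^ (-j))⁻¹ * (c ^ (-j) * v * (c ^ (-j))⁻¹) by group,
      h.d.rot_conj_refl, h.split.comm _ (zpow_mem h.d.cmem _) v hv, mul_inv_cancel_right]
    congr 3
    ring
  · refine ⟨1, Or.inr rfl, c ^ (-j), h.split.le₁ (zpow_mem h.d.cmem _), ?_⟩
    rw [show c ^ (-j) * (c ^ (2 * j + 1) * e * v) * (c ^ (-j))⁻¹ =
      c ^ (-j) * (c ^ (2 * j + 1) * e) * (c ^ (-j))⁻¹ * (c ^ (-j) * v * (c ^ (-j))⁻¹) by group,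
      h.d.rot_conj_refl, h.split.comm _ (zpow_mem h.d.cmem _) v hv, mul_inv_cancel_right]
    congr 3
    ring

/-- Without fusion of the central elements there is a subgroup of index two. -/
theorem Mixed.exists_moved (h : Mixed P D V n c e)
    (h2 : ∀ N : Subgroup G, N.Normal → N.index ≠ 2) :
    ∃ w, IsC V n c w ∧ ∃ m ∈ normalizer ((P : Subgroup G) : Set G), m * w * m⁻¹ ≠ w := by
  by_contra hne
  push Not at hne
  have htriv : ∀ {a b}, IsC V n c a → IsC V n c b → IsConj a b → a = b := fun {a b} ha hb hab => by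
    obtain ⟨m, hm, e'⟩ := burnside (h.isC_central ha) (h.isC_central hb) hab
    rw [← e', hne a ha m hm]
  obtain ⟨r, hr, hrc, -⟩ := h.exists_r h2
  have hmap : ∀ k : ℤ, ∃ g : G, g * (c ^ k * e * r k) * g⁻¹ = cz n c ∧
      ¬ IsC V n c (g * cz n c * g⁻¹) ∧
      ∀ w, IsC V n c w → IsC V n c (g * w * g⁻¹) ∨ IsC V n c (g * (cz n c * w) * g⁻¹) := fun k => by
    obtain ⟨g, hg, hnc, hgu⟩ := h.exists_map ⟨k, r k, hr k, rfl⟩ h.isC_z (hrc k).symm
    exact ⟨g, hg, hnc, fun w hw => hgu w (h.isC_mem hw) (h.isC_sq hw)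
      (h.isC_central hw _ (h.out_mem ⟨k, r k, hr k, rfl⟩)).symm⟩
  choose g hg hnc hgu using hmap
  set A : ℤ → G → Prop := fun k w => IsC V n c w ∧ IsC V n c (g k * w * (g k)⁻¹) with hA
  have hAfix : ∀ k w, A k w → g k * w * (g k)⁻¹ = w := fun k w hw =>
    (htriv hw.1 hw.2 (isConj_iff.2 ⟨g k, rfl⟩)).symm
  have hAmul : ∀ k a b, A k a → A k b → A k (a * b) := fun k a b ha hb =>
    ⟨h.isC_mul ha.1 hb.1, by
      rw [show g k * (a * b) * (g k)⁻¹ = g k * a * (g k)⁻¹ * (g k * b * (g k)⁻¹) by group]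
      exact h.isC_mul ha.2 hb.2⟩
  have hAor : ∀ k w, IsC V n c w → A k w ∨ A k (cz n c * w) := fun k w hw =>
    (hgu k w hw).imp (fun e' => ⟨hw, e'⟩) fun e' => ⟨h.isC_zmul hw, e'⟩
  have hAz : ∀ k w, A k w → ¬ A k (cz n c * w) := fun k w hw hw' => by
    refine hnc k ?_
    have := (hAmul k _ _ hw' hw).2
    rwa [mul_assoc (cz n c) w w, h.isC_sq hw.1, mul_one] at this
  -- a central involution missed by both kinds of reflections
  obtain ⟨u, v, hv, hv1, huv, hu0, hu1⟩ : ∃ u v, v ∈ V ∧ v ≠ 1 ∧ (u = v ∨ u = cz n c * v) ∧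
      A 0 u ∧ A 1 u := by
    obtain ⟨v₁, hv₁, hv₁1, -⟩ := h.exists_ne (a := 1)
    obtain ⟨v₂, hv₂, hv₂1, hv₂₁⟩ := h.exists_ne (a := v₁)
    have pick : ∀ v ∈ V, ∃ w, (w = v ∨ w = cz n c * v) ∧ A 0 w := fun v hv =>
      (hAor 0 v (h.isC_v hv)).elim (fun e' => ⟨v, Or.inl rfl, e'⟩)
        fun e' => ⟨_, Or.inr rfl, e'⟩
    obtain ⟨w₁, hw₁, hA₁⟩ := pick v₁ hv₁
    obtain ⟨w₂, hw₂, hA₂⟩ := pick v₂ hv₂
    rcases hAor 1 w₁ hA₁.1 with hB₁ | hB₁
    · exact ⟨w₁, v₁, hv₁, hv₁1, hw₁, hA₁, hB₁⟩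
    rcases hAor 1 w₂ hA₂.1 with hB₂ | hB₂
    · exact ⟨w₂, v₂, hv₂, hv₂1, hw₂, hA₂, hB₂⟩
    have hB := hAmul 1 _ _ hB₁ hB₂
    rw [mul_assoc, ← mul_assoc w₁, (h.z_central w₁ (h.isC_mem hA₁.1)).eq, mul_assoc, h.zz] at hB
    have hz2 : Commute v₁ (cz n c) := h.z_central _ (h.split.le₂ hv₁)
    refine ⟨w₁ * w₂, v₁ * v₂, mul_mem hv₁ hv₂, fun e' => hv₂₁ ?_, ?_, hAmul 0 _ _ hA₁ hA₂, hB⟩
    · rw [← inv_eq_of_mul_eq_one_right e']
      exact inv_eq_of_mul_eq_one_right (h.sq v₁ hv₁)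
    · rcases hw₁ with rfl | rfl <;> rcases hw₂ with rfl | rfl
      · exact Or.inl rfl
      · right; rw [← mul_assoc, hz2.eq, mul_assoc]
      · right; rw [mul_assoc]
      · left; rw [mul_assoc, ← mul_assoc v₁, hz2.eq, mul_assoc, h.zz]
  have hu01 : ∀ k : ℤ, (k = 0 ∨ k = 1) → A k u := by rintro k (rfl | rfl) <;> assumption
  have hune : u ≠ cz n c ∧ u ≠ 1 := by
    have key : ∀ a ∈ D, ∀ a' ∈ D, a * v ≠ a' * 1 := fun a ha a' ha' e' =>
      hv1 (h.split.uniq ha ha' hv (one_mem _) e').2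
    rcases huv with rfl | rfl
    · refine ⟨fun e' => key 1 (one_mem _) _ h.d.cz_mem ?_, hv1⟩
      rw [one_mul, mul_one]; exact e'
    · refine ⟨fun e' => key _ h.d.cz_mem _ h.d.cz_mem ?_,
        fun e' => key _ h.d.cz_mem 1 (one_mem _) ?_⟩
      · rw [mul_one]; exact e'
      · rw [mul_one]; exact e'
  -- it is isolated in `P`
  have hiso : ∀ y ∈ P, IsConj u y → y = u := by
    intro y hy hc
    have hy2 : y * y = 1 := by
      obtain ⟨t, ht⟩ := isConj_iff.1 hc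
      rw [← ht, show t * u * t⁻¹ * (t * u * t⁻¹) = t * (u * u) * t⁻¹ by group,
        h.isC_sq hu0.1, mul_one, mul_inv_cancel]
    rcases h.cases_sq hy hy2 with hC | ⟨i, v', hv', rfl⟩
    · exact (htriv hu0.1 hC hc).symm
    exfalso
    obtain ⟨k, hk, p, -, hp⟩ := h.reduce i hv'
    have hc' : IsConj u (c ^ k * e * v') := hc.trans (isConj_iff.2 ⟨p, hp⟩)
    have hkA := hu01 k hk
    have hrv : r k * v' ∈ V := mul_mem (hr k) hv'
    have hx : IsOut V c e (c ^ k * e * v') := ⟨k, v', hv', rfl⟩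
    have e1 : c ^ k * e * r k * (r k * v') = c ^ k * e * v' := by
      rw [mul_assoc (c ^ k * e), ← mul_assoc (r k), h.sq _ (hr k), one_mul]
    have e2 : c ^ k * e * r k * (cz n c * (r k * v')) = cz n c * (c ^ k * e * v') := by
      rw [← mul_assoc, (h.z_central _ (h.split.mem (h.d.refl_mem k) (hr k))).eq, mul_assoc, e1]
    have himg : ∀ w, A k w →
        g k * (c ^ k * e * r k * w) * (g k)⁻¹ = cz n c * w := fun w hw => by
      rw [show g k * (c ^ k * e * r k * w) * (g k)⁻¹ =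
        g k * (c ^ k * e * r k) * (g k)⁻¹ * (g k * w * (g k)⁻¹) by group, hg, hAfix k w hw]
    obtain ⟨w, hwA, hcw⟩ : ∃ w, A k w ∧ IsConj u (cz n c * w) := by
      rcases hAor k _ (h.isC_v hrv) with hw | hw
      · refine ⟨_, hw, hc'.trans (isConj_iff.2 ⟨g k, ?_⟩)⟩
        rw [← himg _ hw, e1]
      · refine ⟨_, hw, (hc'.trans (h.z_partner hx)).trans (isConj_iff.2 ⟨g k, ?_⟩)⟩
        rw [← himg _ hw, e2]
    have e3 := htriv hu0.1 (h.isC_zmul hwA.1) hcw
    exact hAz k w hwA (e3 ▸ hkA)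
  obtain ⟨w, hw, hw1, hwv⟩ := h.exists_ne (a := v)
  set M := D ⊔ zpowers w with hM
  have hmemM : ∀ a ∈ D, ∀ b ∈ V, (a * b ∈ M ↔ b = 1 ∨ b = w) := by
    intro a ha b hb
    have hn : zpowers w ≤ normalizer (D : Set G) :=
      le_trans (zpowers_le.2 (mem_centralizer_iff.2 fun t ht => h.split.comm t ht w hw))
        (centralizer_le_normalizer _)
    constructor
    · intro hm
      obtain ⟨a', ha', b', hb', e'⟩ := (Coprime.mem_sup_of_le_normalizer hn).1 hm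
      obtain ⟨i, rfl⟩ := mem_zpowers_iff.1 hb'
      have := (h.split.uniq ha' ha (zpow_mem hw i) hb e').2
      rcases Int.even_or_odd i with ⟨j, rfl⟩ | ⟨j, rfl⟩
      · rw [← two_mul, zpow_mul, zpow_two, h.sq w hw, one_zpow] at this
        exact Or.inl this.symm
      · rw [zpow_add, zpow_mul, zpow_two, h.sq w hw, one_zpow, one_mul, zpow_one] at this
        exact Or.inr this.symm
    · rintro (rfl | rfl)
      · rw [mul_one]; exact mem_sup_left ha
      · exact mul_mem (mem_sup_left ha) (mem_sup_right (mem_zpowers _))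
  have hMi : M.relIndex (P : Subgroup G) = 2 := by
    refine relIndex_two (h.split.le₂ hv) fun b hb => ?_
    obtain ⟨a, ha, b', hb', rfl⟩ := h.split.decomp hb
    rw [mul_assoc, hmemM a ha _ (mul_mem hb' hv), hmemM a ha _ hb']
    have hvw : v * v = 1 := h.sq v hv
    rcases h.four hv hw hv1 hw1 hwv.symm hb' with rfl | rfl | rfl | rfl
    · exact Or.inr ⟨Or.inl rfl, by rw [one_mul]; rintro (e' | e'); exacts [hv1 e', hwv e'.symm]⟩
    · exact Or.inl ⟨Or.inl hvw, by rintro (e' | e'); exacts [hv1 e', hwv e'.symm]⟩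
    · refine Or.inr ⟨Or.inr rfl, ?_⟩
      rintro (e' | e')
      · exact hwv (by
          rw [← inv_eq_of_mul_eq_one_right e']
          exact (inv_eq_of_mul_eq_one_right (h.sq b' hb')).symm)
      · exact hv1 (mul_eq_left.1 e')
    · refine Or.inl ⟨Or.inr ?_, ?_⟩
      · rw [mul_assoc, (h.v_comm hw hv).eq, ← mul_assoc, hvw, one_mul]
      · rintro (e' | e')
        · exact hwv (by
            rw [← inv_eq_of_mul_eq_one_right e']
            exact inv_eq_of_mul_eq_one_right (h.sq v hv))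
        · exact hv1 (mul_eq_right.1 e')
  obtain ⟨y, hyM, hyP, hcy⟩ := fused_into h2 hMi (h.isC_mem hu0.1) (h.isC_sq hu0.1)
  rw [hiso y hyP hcy] at hyM
  have hno : ¬ (v = 1 ∨ v = w) := by rintro (e' | e'); exacts [hv1 e', hwv e'.symm]
  rcases huv with rfl | rfl
  · exact hno ((hmemM 1 (one_mem _) _ hv).1 (by rwa [one_mul]))
  · exact hno ((hmemM _ h.d.cz_mem _ hv).1 hyM)

/-- A normalizing element fixing a central involution modulo the square fixes all. -/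
theorem Mixed.fix_all (h : Mixed P D V n c e) {m v : G}
    (hm : m ∈ normalizer ((P : Subgroup G) : Set G)) (hv : v ∈ V) (hv1 : v ≠ 1)
    (hmv : m * v * m⁻¹ = v ∨ m * v * m⁻¹ = cz n c * v) {w : G} (hw : IsC V n c w) :
    m * w * m⁻¹ = w := by
  have hfixv : m * v * m⁻¹ = v := hmv.resolve_right fun e' =>
    h.no_flip (h.isC_v hv) (isConj_iff.2 ⟨m, e'⟩)
  suffices H : ∀ w ∈ V, m * w * m⁻¹ = w by
    obtain ⟨b, hb, rfl | rfl⟩ := hw
    · exact H _ hb
    · rw [show m * (cz n c * b) * m⁻¹ = m * cz n c * m⁻¹ * (m * b * m⁻¹) by group, h.fix_z hm,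
        H b hb]
  intro w hw
  by_cases hw1 : w = 1
  · rw [hw1, mul_one, mul_inv_cancel]
  by_cases hwv : w = v
  · rw [hwv]; exact hfixv
  have hcen : ∀ p ∈ P, Commute p (m * w * m⁻¹) := fun p hp => by
    have := (Commute.conj_iff m).2 (h.v_central hw
      ((mem_normalizer_iff.1 (inv_mem hm) p).1 hp))
    rwa [show m * (m⁻¹ * p * m⁻¹⁻¹) * m⁻¹ = p by group] at this
  have hPw : m * w * m⁻¹ ∈ P := (mem_normalizer_iff.1 hm w).1 (h.split.le₂ hw)
  have hC : IsC V n c (m * w * m⁻¹) := (h.cases_sq hPw (by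
    rw [show m * w * m⁻¹ * (m * w * m⁻¹) = m * (w * w) * m⁻¹ by group, h.sq w hw, mul_one,
      mul_inv_cancel])).resolve_right fun ho => h.out_not_central ho (hcen c (h.split.le₁ h.d.cmem))
  -- the quotient is fixed
  obtain ⟨t, ht, hmt⟩ : ∃ t, m * t * m⁻¹ = t ∧ t * t = 1 ∧ m * w * m⁻¹ = t * w := by
    have hz := h.fix_z hm
    have hzv : m * (cz n c * v) * m⁻¹ = cz n c * v := by
      rw [show m * (cz n c * v) * m⁻¹ = m * cz n c * m⁻¹ * (m * v * m⁻¹) by group, hz, hfixv]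
    have h1 : m * (1 : G) * m⁻¹ = 1 := by group
    have back : ∀ a, m * a * m⁻¹ = a → a ≠ w → m * w * m⁻¹ ≠ a := fun a ha hne e' =>
      hne (mul_left_cancel (mul_right_cancel (e'.trans ha.symm))).symm
    have hne : ∀ a ∈ D, ∀ b ∈ V, b ≠ w → a * b ≠ w := fun a ha b hb hbw e' =>
      hbw (h.split.uniq ha (one_mem _) hb hw (e'.trans (one_mul w).symm)).2
    obtain ⟨b, hb, hb'⟩ := hC
    rcases h.four hv hw hv1 hw1 (Ne.symm hwv) hb with rfl | rfl | rfl | rfl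
    · rcases hb' with e' | e'
      · exact absurd e' (back 1 h1 (fun e => hw1 e.symm))
      · rw [mul_one] at e'
        exact absurd e' (back _ hz (by
          have := hne _ h.d.cz_mem 1 (one_mem _) (Ne.symm hw1)
          rwa [mul_one] at this))
    · rcases hb' with e' | e'
      · exact absurd e' (back _ hfixv (Ne.symm hwv))
      · exact absurd e' (back _ hzv (hne _ h.d.cz_mem _ hb (Ne.symm hwv)))
    · rcases hb' with e' | e'
      · exact ⟨1, h1, one_mul 1, by rw [one_mul]; exact e'⟩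
      · exact ⟨_, hz, h.d.cz_sq, e'⟩
    · rcases hb' with e' | e'
      · exact ⟨v, hfixv, h.sq v hv, e'⟩
      · exact ⟨_, hzv, h.isC_sq (h.isC_zmul (h.isC_v hv)), by rw [mul_assoc (cz n c) v w]; exact e'⟩
  have e2 : m * (t * w) * m⁻¹ = w := by
    rw [show m * (t * w) * m⁻¹ = m * t * m⁻¹ * (m * w * m⁻¹) by group, ht, hmt.2, ← mul_assoc,
      hmt.1, one_mul]
  rw [hmt.2]
  exact (odd_swap hm (fun p hp => h.v_central hw hp) hmt.2 e2).symm

omit [Finite G] in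
theorem Mixed.conj_isC (h : Mixed P D V n c e) {m w : G}
    (hm : m ∈ normalizer ((P : Subgroup G) : Set G)) (hw : IsC V n c w) :
    IsC V n c (m * w * m⁻¹) := by
  have hPw : m * w * m⁻¹ ∈ P := (mem_normalizer_iff.1 hm w).1 (h.isC_mem hw)
  refine (h.cases_sq hPw (by
    rw [show m * w * m⁻¹ * (m * w * m⁻¹) = m * (w * w) * m⁻¹ by group, h.isC_sq hw, mul_one,
      mul_inv_cancel])).resolve_right fun ho => h.out_not_central ho ?_
  have := (Commute.conj_iff m).2 (h.isC_central hw (m⁻¹ * c * m⁻¹⁻¹)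
    ((mem_normalizer_iff.1 (inv_mem hm) c).1 (h.split.le₁ h.d.cmem)))
  rwa [show m * (m⁻¹ * c * m⁻¹⁻¹) * m⁻¹ = c by group] at this

/-- A triple of central involutions permuted cyclically. -/
structure Tri (V : Subgroup G) (n : ℕ) (c : G) (m u₀ u₁ u₂ : G) : Prop where
  hc₀ : IsC V n c u₀
  hc₁ : IsC V n c u₁
  hc₂ : IsC V n c u₂
  prod : u₀ * u₁ = u₂
  map₀ : m * u₀ * m⁻¹ = u₁
  map₁ : m * u₁ * m⁻¹ = u₂
  map₂ : m * u₂ * m⁻¹ = u₀
  cover : ∀ v ∈ V, v = 1 ∨ ∃ u, (u = u₀ ∨ u = u₁ ∨ u = u₂) ∧ (v = u ∨ v = cz n c * u)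
  sep : ∀ u, (u = u₀ ∨ u = u₁ ∨ u = u₂) → u ≠ 1 ∧ u ≠ cz n c

theorem Mixed.exists_tri (h : Mixed P D V n c e) {m w : G} (hw : IsC V n c w)
    (hm : m ∈ normalizer ((P : Subgroup G) : Set G)) (hmw : m * w * m⁻¹ ≠ w) :
    ∃ u₀ u₁ u₂, Tri V n c m u₀ u₁ u₂ := by
  have hnofix : ∀ v ∈ V, v ≠ 1 → ¬ (m * v * m⁻¹ = v ∨ m * v * m⁻¹ = cz n c * v) :=
    fun v hv hv1 hh => hmw (h.fix_all hm hv hv1 hh hw)
  obtain ⟨v₀, hv₀, hv₀1, -⟩ := h.exists_ne (a := 1)
  obtain ⟨v₁, hv₁, hmv₀⟩ := h.conj_isC hm (h.isC_v hv₀)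
  have hv₁1 : v₁ ≠ 1 := by
    rintro rfl
    rcases hmv₀ with e' | e'
    · exact hv₀1 (conj_eq_one_iff.1 e')
    · rw [mul_one] at e'
      have e2 := e'.trans (h.fix_z hm).symm
      have e3 : v₀ = cz n c := mul_left_cancel (mul_right_cancel e2)
      exact hv₀1 (h.split.uniq (one_mem _) h.d.cz_mem hv₀ (one_mem _)
        (by rw [one_mul, mul_one]; exact e3)).2
  have hv₁0 : v₁ ≠ v₀ := by
    rintro rfl
    exact hnofix _ hv₀ hv₀1 hmv₀
  obtain ⟨v₂, hv₂, hmv₁⟩ := h.conj_isC hm (h.isC_v hv₁)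
  have hv₂1 : v₂ ≠ 1 := by
    rintro rfl
    rcases hmv₁ with e' | e'
    · exact hv₁1 (conj_eq_one_iff.1 e')
    · rw [mul_one] at e'
      have e2 := e'.trans (h.fix_z hm).symm
      have e3 : v₁ = cz n c := mul_left_cancel (mul_right_cancel e2)
      exact hv₁1 (h.split.uniq (one_mem _) h.d.cz_mem hv₁ (one_mem _)
        (by rw [one_mul, mul_one]; exact e3)).2
  have hv₂₁ : v₂ ≠ v₁ := by
    rintro rfl
    exact hnofix _ hv₁ hv₁1 hmv₁
  -- the elements along the orbit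
  set u₁ := m * v₀ * m⁻¹ with hu₁
  set u₂ := m * u₁ * m⁻¹ with hu₂
  have hu₂' : u₂ = v₂ ∨ u₂ = cz n c * v₂ := by
    have hz := h.fix_z hm
    rcases hmv₀ with e' | e' <;> rcases hmv₁ with e'' | e''
    · exact Or.inl (by rw [hu₂, e', e''])
    · exact Or.inr (by rw [hu₂, e', e''])
    · right
      rw [hu₂, e', show m * (cz n c * v₁) * m⁻¹ = m * cz n c * m⁻¹ * (m * v₁ * m⁻¹) by group, hz,
        e'']
    · left
      rw [hu₂, e', show m * (cz n c * v₁) * m⁻¹ = m * cz n c * m⁻¹ * (m * v₁ * m⁻¹) by group, hz,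
        e'', h.zz]
  have hv₂0 : v₂ ≠ v₀ := by
    rintro rfl
    have hm2 : m ^ 2 ∈ normalizer ((P : Subgroup G) : Set G) := pow_mem hm 2
    have e1 : m ^ 2 * v₂ * (m ^ 2)⁻¹ = u₂ := by rw [hu₂, hu₁, pow_two]; group
    have hall := fun {a} ha => h.fix_all hm2 hv₂ hv₂1 (by rw [e1]; exact hu₂') (w := a) ha
    refine hmw (odd_swap hm (h.isC_central hw) rfl ?_).symm
    have := hall hw
    rw [pow_two] at this
    exact (by group : m * (m * w * m⁻¹) * m⁻¹ = m * m * w * (m * m)⁻¹).trans this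
  have hv2 : v₂ = v₀ * v₁ := by
    rcases h.four hv₀ hv₁ hv₀1 hv₁1 hv₁0.symm hv₂ with e' | e' | e' | e'
    exacts [absurd e' hv₂1, absurd e' hv₂0, absurd e' hv₂₁, e']
  -- choose the representative with trivial product
  obtain ⟨u₀, hu₀, hprod⟩ : ∃ u₀, (u₀ = v₀ ∨ u₀ = cz n c * v₀) ∧
      u₀ * (m * u₀ * m⁻¹) = m * (m * u₀ * m⁻¹) * m⁻¹ := by
    have hz := h.fix_z hm
    have hu₁' : u₁ = v₁ ∨ u₁ = cz n c * v₁ := hmv₀
    have hb : v₀ * u₁ = u₂ ∨ v₀ * u₁ = cz n c * u₂ := by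
      have hcz : Commute v₀ (cz n c) := h.z_central _ (h.split.le₂ hv₀)
      rcases hu₁' with e' | e' <;> rcases hu₂' with e'' | e'' <;> rw [e', e'', hv2]
      · exact Or.inl rfl
      · exact Or.inr (h.zz _).symm
      · right; rw [← mul_assoc, hcz.eq, mul_assoc]
      · left; rw [← mul_assoc, hcz.eq, mul_assoc]
    rcases hb with e' | e'
    · exact ⟨v₀, Or.inl rfl, e'⟩
    · refine ⟨cz n c * v₀, Or.inr rfl, ?_⟩
      have e1 : m * (cz n c * v₀) * m⁻¹ = cz n c * u₁ := by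
        rw [show m * (cz n c * v₀) * m⁻¹ = m * cz n c * m⁻¹ * (m * v₀ * m⁻¹) by group, hz]
      rw [e1, show m * (cz n c * u₁) * m⁻¹ = m * cz n c * m⁻¹ * (m * u₁ * m⁻¹) by group, hz,
        h.split.comm (cz n c) h.d.cz_mem v₀ hv₀, mul_assoc, h.zz, ← hu₂, e']
  have hC0 : IsC V n c u₀ := by
    rcases hu₀ with rfl | rfl
    exacts [h.isC_v hv₀, h.isC_zmul (h.isC_v hv₀)]
  set w₁ := m * u₀ * m⁻¹ with hw₁
  set w₂ := m * w₁ * m⁻¹ with hw₂
  have hC1 := h.conj_isC hm hC0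
  have hC2 := h.conj_isC hm hC1
  have hz := h.fix_z hm
  have hw₁' : w₁ = v₁ ∨ w₁ = cz n c * v₁ := by
    rcases hu₀ with rfl | rfl
    · exact hmv₀
    · rw [hw₁, show m * (cz n c * v₀) * m⁻¹ = m * cz n c * m⁻¹ * (m * v₀ * m⁻¹) by group, hz]
      rw [← hu₁]
      rcases hmv₀ with e' | e' <;> rw [e']
      exacts [Or.inr rfl, Or.inl (h.zz _)]
  have hw₂' : w₂ = v₂ ∨ w₂ = cz n c * v₂ := by
    rcases hw₁' with e' | e' <;> rw [hw₂, e']
    · exact hmv₁
    · rw [show m * (cz n c * v₁) * m⁻¹ = m * cz n c * m⁻¹ * (m * v₁ * m⁻¹) by group, hz]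
      rcases hmv₁ with e'' | e'' <;> rw [e'']
      exacts [Or.inr rfl, Or.inl (h.zz _)]
  refine ⟨u₀, w₁, w₂, hC0, hC1, hC2, hprod, rfl, rfl, ?_, fun v hv => ?_, fun u hu => ?_⟩
  · have hcomm : Commute u₀ w₁ := (h.isC_central hC1 u₀ (h.isC_mem hC0))
    calc m * w₂ * m⁻¹ = m * (u₀ * w₁) * m⁻¹ := by rw [hprod]
      _ = w₁ * w₂ := by rw [hw₂, hw₁]; group
      _ = u₀ := by
        rw [show w₁ * w₂ = w₁ * (u₀ * w₁) by rw [hprod], hcomm.eq, ← mul_assoc, h.isC_sq hC1,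
          one_mul]
  · have key : ∀ a b, (b = a ∨ b = cz n c * a) → (a = b ∨ a = cz n c * b) := fun a b hh => by
      rcases hh with rfl | rfl
      exacts [Or.inl rfl, Or.inr (h.zz a).symm]
    rcases h.four hv₀ hv₁ hv₀1 hv₁1 hv₁0.symm hv with e' | e' | e' | e'
    · exact Or.inl e'
    · exact Or.inr ⟨u₀, Or.inl rfl, e' ▸ key _ _ hu₀⟩
    · exact Or.inr ⟨w₁, Or.inr (Or.inl rfl), e' ▸ key _ _ hw₁'⟩
    · exact Or.inr ⟨w₂, Or.inr (Or.inr rfl), (e'.trans hv2.symm) ▸ key _ _ hw₂'⟩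
  · have key : ∀ a b, b ∈ V → b ≠ 1 → (a = b ∨ a = cz n c * b) → a ≠ 1 ∧ a ≠ cz n c := by
      intro a b hb hb1 hh
      have hu' : ∀ x ∈ D, ∀ y ∈ D, x * b ≠ y * 1 := fun x hx y hy e' =>
        hb1 (h.split.uniq hx hy hb (one_mem _) e').2
      rcases hh with rfl | rfl
      · refine ⟨hb1, fun e' => hu' 1 (one_mem _) _ h.d.cz_mem ?_⟩
        rw [one_mul, mul_one]; exact e'
      · refine ⟨fun e' => hu' _ h.d.cz_mem 1 (one_mem _) ?_,
          fun e' => hu' _ h.d.cz_mem _ h.d.cz_mem ?_⟩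
        · rw [mul_one]; exact e'
        · rw [mul_one]; exact e'
    rcases hu with rfl | rfl | rfl
    exacts [key _ _ hv₀ hv₀1 hu₀, key _ _ hv₁ hv₁1 hw₁', key _ _ hv₂ hv₂1 hw₂']

variable {m u₀ u₁ u₂ : G}

omit [Finite G] in
theorem Tri.conj (t : Tri V n c m u₀ u₁ u₂) {a b : G} (ha : a = u₀ ∨ a = u₁ ∨ a = u₂)
    (hb : b = u₀ ∨ b = u₁ ∨ b = u₂) : IsConj a b := by
  have h1 : IsConj u₀ u₁ := isConj_iff.2 ⟨m, t.map₀⟩
  have h2 : IsConj u₁ u₂ := isConj_iff.2 ⟨m, t.map₁⟩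
  have key : ∀ x, (x = u₀ ∨ x = u₁ ∨ x = u₂) → IsConj u₀ x := by
    rintro x (rfl | rfl | rfl)
    exacts [IsConj.refl _, h1, h1.trans h2]
  exact (key a ha).symm.trans (key b hb)

theorem Mixed.tri_flip (h : Mixed P D V n c e) (t : Tri V n c m u₀ u₁ u₂)
    (hm : m ∈ normalizer ((P : Subgroup G) : Set G)) {a b : G} (ha : a = u₀ ∨ a = u₁ ∨ a = u₂)
    (hb : b = u₀ ∨ b = u₁ ∨ b = u₂) : ¬ IsConj a (cz n c * b) := fun hc => by
  have hzc : ∀ x y : G, m * x * m⁻¹ = y → IsConj (cz n c * x) (cz n c * y) := fun x y e' =>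
    isConj_iff.2 ⟨m, by
      rw [show m * (cz n c * x) * m⁻¹ = m * cz n c * m⁻¹ * (m * x * m⁻¹) by group, h.fix_z hm, e']⟩
  have key : ∀ x, (x = u₀ ∨ x = u₁ ∨ x = u₂) → IsConj (cz n c * u₀) (cz n c * x) := by
    rintro x (rfl | rfl | rfl)
    exacts [IsConj.refl _, hzc _ _ t.map₀, (hzc _ _ t.map₀).trans (hzc _ _ t.map₁)]
  exact h.no_flip t.hc₀ (((t.conj (Or.inl rfl) ha).trans hc).trans (key b hb).symm)

omit [Finite G] in
theorem Mixed.tri_cases (h : Mixed P D V n c e) (t : Tri V n c m u₀ u₁ u₂) {s : G}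
    (hs : IsC V n c s) :
    s = 1 ∨ s = cz n c ∨ ∃ u, (u = u₀ ∨ u = u₁ ∨ u = u₂) ∧ (s = u ∨ s = cz n c * u) := by
  obtain ⟨v, hv, hsv⟩ := hs
  rcases t.cover v hv with rfl | ⟨u, hu, hvu⟩
  · rw [mul_one] at hsv
    exact hsv.imp_right Or.inl
  · refine Or.inr (Or.inr ⟨u, hu, ?_⟩)
    rcases hsv with e' | e' <;> rcases hvu with e'' | e'' <;> rw [e', e'']
    exacts [Or.inl rfl, Or.inr rfl, Or.inr rfl, Or.inl (h.zz u)]

/-- Conjugation by an element of `P`. -/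
def PC (P : Sylow 2 G) (x y : G) : Prop := ∃ p ∈ P, p * x * p⁻¹ = y

/-- The square of a normalizing element keeps each kind of fused reflection. -/
theorem Mixed.keep (h : Mixed P D V n c e) {r : ℤ → G} (hr : ∀ i, r i ∈ V)
    (hrc : ∀ i, IsConj (cz n c) (c ^ i * e * r i))
    (hcl : ∀ x ∈ P, IsConj (cz n c) x → x = cz n c ∨ ∃ i, x = c ^ i * e * r i)
    (hm : m ∈ normalizer ((P : Subgroup G) : Set G)) (i : ℤ) :
    ∃ p ∈ P, p * m ^ 2 * (c ^ i * e * r i) * (p * m ^ 2)⁻¹ = c ^ i * e * r i := by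
  set x₀ := c ^ (0 : ℤ) * e * r 0 with hx₀
  set x₁ := c ^ (1 : ℤ) * e * r 1 with hx₁
  have hpc_symm : ∀ {x y}, PC P x y → PC P y x := fun {x y} ⟨p, hp, e'⟩ =>
    ⟨p⁻¹, inv_mem hp, by rw [← e']; group⟩
  have hpc_trans : ∀ {x y w}, PC P x y → PC P y w → PC P x w := fun {x y w} ⟨p, hp, e'⟩ ⟨q, hq, e''⟩ =>
    ⟨q * p, mul_mem hq hp, by rw [← e'', ← e']; group⟩
  have hpc_map : ∀ {x y}, PC P x y → PC P (m * x * m⁻¹) (m * y * m⁻¹) := fun {x y} ⟨p, hp, e'⟩ =>
    ⟨m * p * m⁻¹, (mem_normalizer_iff.1 hm p).1 hp, by rw [← e']; group⟩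
  have hred : ∀ j, PC P (c ^ j * e * r j) x₀ ∨ PC P (c ^ j * e * r j) x₁ := fun j => by
    obtain ⟨k, hk, p, hp, e'⟩ := h.reduce j (hr j)
    have heq : r j = r k :=
      h.twist_unique (hr j) (hr k) ((hrc j).trans (isConj_iff.2 ⟨p, e'⟩)) (hrc k)
    rw [heq] at e'
    rcases hk with rfl | rfl
    exacts [Or.inl ⟨p, hp, by rw [heq]; exact e'⟩, Or.inr ⟨p, hp, by rw [heq]; exact e'⟩]
  have hne : ¬ PC P x₀ x₁ := by
    rintro ⟨p, hp, e'⟩
    obtain ⟨a, ha, b, hb, rfl⟩ := h.split.decomp hp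
    rw [hx₀, hx₁, h.split.conj_mul (hr 0) ha hb (h.d.refl_mem 0)] at e'
    have e1 := (h.split.uniq (mul_mem (mul_mem ha (h.d.refl_mem 0)) (inv_mem ha)) (h.d.refl_mem 1)
      (mul_mem (mul_mem hb (hr 0)) (inv_mem hb)) (hr 1) e').1
    obtain ⟨j, rfl | rfl⟩ := h.d.cases' a ha
    · rw [h.d.rot_conj_refl] at e1
      have e2 := mul_right_cancel e1
      rw [zpow_one, zero_add] at e2
      exact absurd e2 (zpow_two_mul_ne h.d j)
    · rw [mul_assoc (c ^ j * e) _ _, mul_inv_rev, h.d.einv, ← zpow_neg,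
        show c ^ j * e * (c ^ (0 : ℤ) * e * (e * c ^ (-j))) = c ^ j * e * (e * e) * c ^ (-j) by
          group, h.d.ee, mul_one, mul_assoc, h.d.e_zpow, neg_neg, ← mul_assoc, ← zpow_add] at e1
      have e2 := mul_right_cancel e1
      rw [zpow_one, ← two_mul] at e2
      exact absurd e2 (zpow_two_mul_ne h.d j)
  have himg : ∀ j, ∃ k, m * (c ^ j * e * r j) * m⁻¹ = c ^ k * e * r k := fun j => by
    have hxo : IsOut V c e (c ^ j * e * r j) := ⟨j, r j, hr j, rfl⟩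
    rcases hcl _ ((mem_normalizer_iff.1 hm _).1 (h.out_mem hxo))
      ((hrc j).trans (isConj_iff.2 ⟨m, rfl⟩)) with e' | e'
    · exfalso
      have e2 := mul_left_cancel (mul_right_cancel (e'.trans (h.fix_z hm).symm))
      exact h.isC_not_out h.isC_z (e2 ▸ hxo)
    · exact e'
  have hmx : ∀ j, PC P (m * (c ^ j * e * r j) * m⁻¹) x₀ ∨ PC P (m * (c ^ j * e * r j) * m⁻¹) x₁ :=
    fun j => by
    obtain ⟨k, hk⟩ := himg j
    rw [hk]
    exact hred k
  have hback : ∀ {x y}, PC P (m * x * m⁻¹) (m * y * m⁻¹) → PC P x y := fun {x y} ⟨p, hp, e'⟩ =>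
    ⟨m⁻¹ * p * m⁻¹⁻¹, (mem_normalizer_iff.1 (inv_mem hm) p).1 hp, by
      rw [show m⁻¹ * p * m⁻¹⁻¹ * x * (m⁻¹ * p * m⁻¹⁻¹)⁻¹ =
        m⁻¹ * (p * (m * x * m⁻¹) * p⁻¹) * m by group, e']
      group⟩
  have h2 : ∀ x, x = x₀ ∨ x = x₁ → PC P (m * (m * x * m⁻¹) * m⁻¹) x := by
    rintro x (rfl | rfl)
    · rcases hmx 0 with a | a
      · exact hpc_trans (hpc_map a) a
      · rcases hmx 1 with b | b
        · exact hpc_trans (hpc_map a) b
        · exact absurd (hback (hpc_trans a (hpc_symm b))) hne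
    · rcases hmx 1 with a | a
      · rcases hmx 0 with b | b
        · exact absurd (hback (hpc_trans b (hpc_symm a))) hne
        · exact hpc_trans (hpc_map a) b
      · exact hpc_trans (hpc_map a) a
  have hfin : PC P (m * (m * (c ^ i * e * r i) * m⁻¹) * m⁻¹) (c ^ i * e * r i) := by
    rcases hred i with a | a
    · exact hpc_trans (hpc_trans (hpc_map (hpc_map a)) (h2 _ (Or.inl rfl))) (hpc_symm a)
    · exact hpc_trans (hpc_trans (hpc_map (hpc_map a)) (h2 _ (Or.inr rfl))) (hpc_symm a)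
  obtain ⟨p, hp, e'⟩ := hfin
  refine ⟨p, hp, ?_⟩
  rw [pow_two,
    show p * (m * m) * (c ^ i * e * r i) * (p * (m * m))⁻¹ =
      p * (m * (m * (c ^ i * e * r i) * m⁻¹) * m⁻¹) * p⁻¹ by group]
  exact e'
where
  zpow_two_mul_ne (hd : Dih D n c e) (j : ℤ) : c ^ (2 * j) ≠ c := by
    intro e'
    have h1 : c ^ (2 * j - 1) = 1 := by rw [zpow_sub, zpow_one, e', mul_inv_cancel]
    have h2 := orderOf_dvd_iff_zpow_eq_one.2 h1
    rw [hd.oc] at h2
    push_cast at h2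
    have h3 : (2 : ℤ) ∣ 2 * j - 1 := dvd_trans (dvd_pow_self 2 (by omega)) h2
    omega

/-- A noncentral involution outside the class of the square is fused to the outer coset. -/
theorem Mixed.out_class (h : Mixed P D V n c e) (t : Tri V n c m u₀ u₁ u₂) {r : ℤ → G}
    (hr : ∀ i, r i ∈ V) (hrc : ∀ i, IsConj (cz n c) (c ^ i * e * r i))
    (hcl : ∀ x ∈ P, IsConj (cz n c) x → x = cz n c ∨ ∃ i, x = c ^ i * e * r i)
    (hm : m ∈ normalizer ((P : Subgroup G) : Set G)) {i : ℤ} {v : G} (hv : v ∈ V)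
    (hne : v ≠ r i) : IsConj (c ^ i * e * v) (cz n c * u₀) := by
  set x := c ^ i * e * r i with hx
  have hxo : IsOut V c e x := ⟨i, r i, hr i, rfl⟩
  obtain ⟨p, hp, hfix⟩ := h.keep hr hrc hcl hm i
  set σ := p * m ^ 2 with hσ
  have hzc : Commute x (cz n c) := h.z_central x (h.out_mem hxo)
  have hpart : ∀ u, IsC V n c u → IsConj (x * u) (x * (cz n c * u)) := fun u hu => by
    have ho : IsOut V c e (x * u) := by
      obtain ⟨b, hb, rfl | rfl⟩ := hu
      · exact ⟨i, _, mul_mem (hr i) hb, by rw [hx, mul_assoc (c ^ i * e)]⟩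
      · rw [← mul_assoc x, hzc.eq, mul_assoc (cz n c) x b]
        exact h.z_out ⟨i, _, mul_mem (hr i) hb, by rw [hx, mul_assoc (c ^ i * e)]⟩
    rw [← mul_assoc x, hzc.eq, mul_assoc (cz n c) x u]
    exact h.z_partner ho
  have hσu : ∀ a b, IsC V n c b → m * (m * a * m⁻¹) * m⁻¹ = b → IsConj (x * a) (x * b) :=
    fun a b hb e' => isConj_iff.2 ⟨σ, by
      have e2 : σ * a * σ⁻¹ = b := by
        rw [hσ, pow_two,
          show p * (m * m) * a * (p * (m * m))⁻¹ = p * (m * (m * a * m⁻¹) * m⁻¹) * p⁻¹ by group,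
          e', (h.isC_central hb p hp).eq, mul_inv_cancel_right]
      rw [show σ * (x * a) * σ⁻¹ = σ * x * σ⁻¹ * (σ * a * σ⁻¹) by group, hfix, e2]⟩
  have h02 : IsConj (x * u₀) (x * u₂) := hσu u₀ u₂ t.hc₂ (by rw [t.map₀, t.map₁])
  have h21 : IsConj (x * u₂) (x * u₁) := hσu u₂ u₁ t.hc₁ (by rw [t.map₂, t.map₀])
  -- the map to the centre
  obtain ⟨g, hg, -, hgu⟩ := h.exists_map hxo h.isC_z (hrc i).symm
  have himg : ∀ u, IsC V n c u → ∃ u', (u' = u ∨ u' = cz n c * u) ∧ IsC V n c u' ∧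
      IsC V n c (g * u' * g⁻¹) ∧ IsConj (x * u) (cz n c * (g * u' * g⁻¹)) := fun u hu => by
    have hcomm : Commute u x := (h.isC_central hu x (h.out_mem hxo)).symm
    rcases hgu u (h.isC_mem hu) (h.isC_sq hu) hcomm with hC | hC
    · refine ⟨u, Or.inl rfl, hu, hC, isConj_iff.2 ⟨g, ?_⟩⟩
      rw [show g * (x * u) * g⁻¹ = g * x * g⁻¹ * (g * u * g⁻¹) by group, hg]
    · refine ⟨_, Or.inr rfl, h.isC_zmul hu, hC, (hpart u hu).trans (isConj_iff.2 ⟨g, ?_⟩)⟩
      rw [show g * (x * (cz n c * u)) * g⁻¹ = g * x * g⁻¹ * (g * (cz n c * u) * g⁻¹) by group, hg]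
  obtain ⟨a, ha', haC, hsa, hca⟩ := himg u₀ t.hc₀
  obtain ⟨b, hb', hbC, hsb, hcb⟩ := himg u₁ t.hc₁
  set s₀ := g * a * g⁻¹ with hs₀
  set s₁ := g * b * g⁻¹ with hs₁
  have hab : a * b = u₂ ∨ a * b = cz n c * u₂ := by
    have hcz : Commute u₀ (cz n c) := h.z_central _ (h.isC_mem t.hc₀)
    rcases ha' with e1 | e1 <;> rcases hb' with e2 | e2 <;> rw [e1, e2, ← t.prod]
    · exact Or.inl rfl
    · right; rw [← mul_assoc, hcz.eq, mul_assoc]
    · right; rw [mul_assoc]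
    · left; rw [mul_assoc, ← mul_assoc u₀, hcz.eq, mul_assoc, h.zz]
  have hc2 : IsConj (x * u₂) (cz n c * (s₀ * s₁)) := by
    have e3 : g * (x * (a * b)) * g⁻¹ = cz n c * (s₀ * s₁) := by
      rw [show g * (x * (a * b)) * g⁻¹ = g * x * g⁻¹ * (g * a * g⁻¹ * (g * b * g⁻¹)) by group, hg]
    rcases hab with e1 | e1
    · exact isConj_iff.2 ⟨g, by rw [← e1]; exact e3⟩
    · exact (hpart u₂ t.hc₂).trans (isConj_iff.2 ⟨g, by rw [← e1]; exact e3⟩)
  have hne1 : ∀ {y s : G}, IsC V n c y → g * y * g⁻¹ = s → y ≠ 1 → y ≠ cz n c →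
      s ≠ 1 ∧ s ≠ cz n c := fun {y s} hy e1 hy1 hyz =>
    ⟨fun e2 => hy1 (conj_eq_one_iff.1 (e1.trans e2)),
      fun e2 => hyz (h.eq_z hy (isConj_iff.2 ⟨g, e1.trans e2⟩).symm)⟩
  have hsep : ∀ y u, (u = u₀ ∨ u = u₁ ∨ u = u₂) → (y = u ∨ y = cz n c * u) →
      y ≠ 1 ∧ y ≠ cz n c := fun y u hu hyu => by
    obtain ⟨q1, q2⟩ := t.sep u hu
    rcases hyu with rfl | rfl
    · exact ⟨q1, q2⟩
    · exact ⟨fun e1 => q2 (by rw [← h.zz u, e1, mul_one]),
        fun e1 => q1 (mul_eq_left.1 e1)⟩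
  obtain ⟨a1, az⟩ := hsep a u₀ (Or.inl rfl) ha'
  obtain ⟨b1, bz⟩ := hsep b u₁ (Or.inr (Or.inl rfl)) hb'
  obtain ⟨p1, pz⟩ := hne1 haC hs₀.symm a1 az
  obtain ⟨q1, qz⟩ := hne1 hbC hs₁.symm b1 bz
  obtain ⟨r1, rz⟩ := hsep (a * b) u₂ (Or.inr (Or.inr rfl)) hab
  obtain ⟨ab1, abz⟩ := hne1 (s := s₀ * s₁) (h.isC_mul haC hbC)
    (by rw [hs₀, hs₁]; group) r1 rz
  have key : IsConj (x * u₀) (cz n c * u₀) := by
    obtain ⟨u, hu, hsu⟩ := ((h.tri_cases t hsa).resolve_left p1).resolve_left pz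
    rcases hsu with e1 | e1
    · rw [e1] at hca
      refine hca.trans ?_
      rcases hu with rfl | rfl | rfl
      · exact IsConj.refl _
      all_goals
        refine IsConj.symm (isConj_iff.2 ?_)
      · exact ⟨m, by
          rw [show m * (cz n c * u₀) * m⁻¹ = m * cz n c * m⁻¹ * (m * u₀ * m⁻¹) by group,
            h.fix_z hm, t.map₀]⟩
      · exact ⟨m * m, by
          rw [show m * m * (cz n c * u₀) * (m * m)⁻¹ =
              m * (m * cz n c * m⁻¹) * m⁻¹ * (m * (m * u₀ * m⁻¹) * m⁻¹) by group,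
            h.fix_z hm, h.fix_z hm, t.map₀, t.map₁]⟩
    · exfalso
      rw [e1, h.zz] at hca
      obtain ⟨u', hu', hsu'⟩ := ((h.tri_cases t hsb).resolve_left q1).resolve_left qz
      have hc01 : IsConj u (cz n c * s₁) := hca.symm.trans ((h02.trans h21).trans hcb)
      rcases hsu' with e2 | e2
      · exact h.tri_flip t hm hu hu' (e2 ▸ hc01)
      · obtain ⟨u'', hu'', hsu''⟩ :=
          ((h.tri_cases t (h.isC_mul hsa hsb)).resolve_left ab1).resolve_left abz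
        have hc02 : IsConj u (cz n c * (s₀ * s₁)) := hca.symm.trans (h02.trans hc2)
        rcases hsu'' with e3 | e3
        · exact h.tri_flip t hm hu hu'' (e3 ▸ hc02)
        · -- the product of two elements of the triple is in the triple
          have huP : u ∈ P := by
            rcases hu with rfl | rfl | rfl
            exacts [h.isC_mem t.hc₀, h.isC_mem t.hc₁, h.isC_mem t.hc₂]
          have e4 : cz n c * u'' = u * u' := by
            rw [← e3, e1, e2, mul_assoc, ← mul_assoc u,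
              (h.z_central u huP).eq, mul_assoc, h.zz]
          have hclosed : u * u' = 1 ∨ (u * u' = u₀ ∨ u * u' = u₁ ∨ u * u' = u₂) := by
            have s0 := h.isC_sq t.hc₀
            have s1 := h.isC_sq t.hc₁
            have s2 := h.isC_sq t.hc₂
            have c01 : u₁ * u₀ = u₂ := by
              rw [← t.prod]; exact (h.isC_central t.hc₀ _ (h.isC_mem t.hc₁)).eq
            have e02 : u₀ * u₂ = u₁ := by rw [← t.prod, ← mul_assoc, s0, one_mul]
            have e20 : u₂ * u₀ = u₁ := by rw [← c01, mul_assoc, s0, mul_one]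
            have e12 : u₁ * u₂ = u₀ := by rw [← c01, ← mul_assoc, s1, one_mul]
            have e21 : u₂ * u₁ = u₀ := by rw [← t.prod, mul_assoc, s1, mul_one]
            rcases hu with rfl | rfl | rfl <;> rcases hu' with rfl | rfl | rfl <;>
              simp [t.prod, c01, e02, e20, e12, e21, s0, s1, s2]
          rcases hclosed with e5 | e5
          · rw [e5] at e4
            refine (t.sep u'' hu'').2 ?_
            rw [← h.zz u'', e4, mul_one]
          · exact h.tri_flip t hm e5 hu'' (e4.symm ▸ IsConj.refl _)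
  have hall : ∀ w, (w = u₀ ∨ w = u₁ ∨ w = u₂) → IsConj (x * w) (cz n c * u₀) := by
    rintro w (rfl | rfl | rfl)
    exacts [key, (h02.trans h21).symm.trans key, h02.symm.trans key]
  have hrv : r i * v ∈ V := mul_mem (hr i) hv
  have e6 : c ^ i * e * v = x * (r i * v) := by
    rw [hx, mul_assoc (c ^ i * e), ← mul_assoc (r i), h.sq _ (hr i), one_mul]
  rcases t.cover _ hrv with e7 | ⟨u, hu, hvu⟩
  · exact absurd ((inv_eq_of_mul_eq_one_right e7).symm.trans
      (inv_eq_of_mul_eq_one_right (h.sq _ (hr i)))) hne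
  · rw [e6]
    rcases hvu with e8 | e8 <;> rw [e8]
    · exact hall u hu
    · refine ((hpart u ?_).symm).trans (hall u hu)
      rcases hu with rfl | rfl | rfl
      exacts [t.hc₀, t.hc₁, t.hc₂]

/-- A dihedral group and a four group give product fusion. -/
theorem Mixed.product_fusion (h : Mixed P D V n c e)
    (h2 : ∀ N : Subgroup G, N.Normal → N.index ≠ 2) :
    ∃ R₁ R₂ : Subgroup G, Split P R₁ R₂ ∧
      (∃ m, 2 ≤ m ∧ Nonempty (↥R₁ ≃* DihedralGroup m)) ∧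
      (∃ m, 2 ≤ m ∧ Nonempty (↥R₂ ≃* DihedralGroup m)) ∧
      Cfsg.IsStronglyClosed R₁ (P : Subgroup G) ∧ Cfsg.IsStronglyClosed R₂ (P : Subgroup G) := by
  obtain ⟨w, hw, m, hm, hmw⟩ := h.exists_moved h2
  obtain ⟨u₀, u₁, u₂, t⟩ := h.exists_tri hw hm hmw
  obtain ⟨r, hr, hrc, hcl⟩ := h.exists_r h2
  set z := cz n c with hz
  -- the second factor
  have htC : ∀ u, (u = u₀ ∨ u = u₁ ∨ u = u₂) → IsC V n c u := by
    rintro u (rfl | rfl | rfl)
    exacts [t.hc₀, t.hc₁, t.hc₂]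
  have s0 := h.isC_sq t.hc₀
  have s1 := h.isC_sq t.hc₁
  have c01 : u₁ * u₀ = u₂ := by
    rw [← t.prod]; exact (h.isC_central t.hc₀ _ (h.isC_mem t.hc₁)).eq
  have e02 : u₀ * u₂ = u₁ := by rw [← t.prod, ← mul_assoc, s0, one_mul]
  have e20 : u₂ * u₀ = u₁ := by rw [← c01, mul_assoc, s0, mul_one]
  have e12 : u₁ * u₂ = u₀ := by rw [← c01, ← mul_assoc, s1, one_mul]
  have e21 : u₂ * u₁ = u₀ := by rw [← t.prod, mul_assoc, s1, mul_one]
  have s2 := h.isC_sq t.hc₂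
  let U : Subgroup G :=
    { carrier := {x | x = 1 ∨ x = u₀ ∨ x = u₁ ∨ x = u₂}
      one_mem' := Or.inl rfl
      mul_mem' := by
        intro a b ha hb
        rcases ha with rfl | rfl | rfl | rfl <;> rcases hb with rfl | rfl | rfl | rfl <;>
          simp [t.prod, c01, e02, e20, e12, e21, s0, s1, s2]
      inv_mem' := by
        intro a ha
        rcases ha with rfl | rfl | rfl | rfl
        · exact Or.inl inv_one
        · exact Or.inr (Or.inl (inv_eq_of_mul_eq_one_right s0))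
        · exact Or.inr (Or.inr (Or.inl (inv_eq_of_mul_eq_one_right s1)))
        · exact Or.inr (Or.inr (Or.inr (inv_eq_of_mul_eq_one_right s2))) }
  have hU : ∀ x ∈ U, x = 1 ∨ x = u₀ ∨ x = u₁ ∨ x = u₂ := fun x hx => hx
  have hUC : ∀ x ∈ U, IsC V n c x := fun x hx =>
    (hU x hx).elim (fun e' => e' ▸ h.isC_one) (htC x)
  -- the first factor
  set v := r 0 with hv
  set u := r 1 * r 0 with hu
  have huV : u ∈ V := mul_mem (hr 1) (hr 0)
  have hnot : ∀ (i : ℤ) (b : G), b ∈ V → c ^ i * e * b ∉ zpowers c := fun i b hb hb' => by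
    have e' := h.split.uniq (h.d.refl_mem i) (zpowers_le.2 h.d.cmem hb') hb (one_mem _)
      (mul_one _).symm
    rw [← e'.1] at hb'
    exact h.d.refl_notMem i hb'
  obtain ⟨hR, hcz⟩ := h.d.twist (u := u) (v := v)
    (fun x hx => Commute.symm (h.split.comm x hx u huV))
    (fun x hx => Commute.symm (h.split.comm x hx v (hr 0)))
    (h.v_comm huV (hr 0)) (h.sq u huV) (h.sq v (hr 0)) (fun i => hnot i v (hr 0))
    (fun i => by rw [mul_assoc]; exact hnot i _ (mul_mem (hr 0) huV))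
  set R := closure ({c * u, e * v} : Set G) with hRdef
  have hRle : R ≤ (P : Subgroup G) := by
    rw [hRdef, closure_le]
    rintro x (rfl | rfl)
    exacts [h.split.mem h.d.cmem huV, h.split.mem h.d.emem (hr 0)]
  have hfused : ∀ i : ℤ, IsConj z ((c * u) ^ i * (e * v)) := by
    intro i
    have hrot : ∀ j k : ℤ, IsConj ((c * u) ^ k * (e * v)) ((c * u) ^ (k + 2 * j) * (e * v)) :=
      fun j k => isConj_iff.2 ⟨_, hR.rot_conj_refl k j⟩
    rcases Int.even_or_odd i with ⟨j, rfl⟩ | ⟨j, rfl⟩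
    · have h0 := hrot j 0
      rw [zero_add, two_mul, zpow_zero, one_mul] at h0
      have h1 := hrc 0
      rw [zpow_zero, one_mul] at h1
      exact h1.trans h0
    · have h0 := hrot j 1
      rw [add_comm (1 : ℤ), zpow_one] at h0
      refine IsConj.trans ?_ h0
      have h1 := hrc 1
      rw [zpow_one] at h1
      rwa [mul_assoc c u, ← mul_assoc u, ← h.split.comm e h.d.emem u huV, mul_assoc e u,
        ← mul_assoc c, hu, hv, mul_assoc (r 1) (r 0) (r 0), h.sq _ (hr 0), mul_one]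
  have hrR : ∀ i : ℤ, c ^ i * e * r i ∈ R := by
    intro i
    have hu2 : ∀ k : ℤ, u ^ k ∈ V := fun k => zpow_mem huV k
    have e1 : (c * u) ^ i * (e * v) = c ^ i * e * (u ^ i * v) := by
      have hcu : Commute c u := h.split.comm c h.d.cmem u huV
      have hue : Commute (u ^ i) e := Commute.symm (h.split.comm e h.d.emem _ (hu2 i))
      rw [hcu.mul_zpow, mul_assoc, ← mul_assoc (u ^ i), hue.eq, mul_assoc e, ← mul_assoc]
    have e2 := h.twist_unique (i := i) (hr i) (mul_mem (hu2 i) (hr 0)) (hrc i)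
      (by rw [hv] at e1; rw [← e1]; exact hfused i)
    rw [e2, ← hv, ← e1]
    exact hR.refl_mem i
  have hclass : ∀ x ∈ P, IsConj z x → x ∈ R := fun x hx hc => by
    rcases hcl x hx hc with rfl | ⟨i, rfl⟩
    · rw [hz, ← hcz]; exact hR.cz_mem
    · exact hrR i
  have hcomm : ∀ a ∈ R, ∀ b ∈ U, a * b = b * a := fun a ha b hb =>
    (h.isC_central (hUC b hb) a (hRle ha)).eq
  have hdisj : R ⊓ U = ⊥ := by
    refine (eq_bot_iff_forall _).2 fun x hx => ?_
    rcases hR.center_cases hx.1 (fun y hy => (h.isC_central (hUC x hx.2) y (hRle hy)).symm) with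
      e' | e'
    · exact e'
    · rw [hcz] at e'
      rcases hU x hx.2 with e'' | e''
      · exact e''
      · exact absurd e' (t.sep x e'').2
  have hzR : z ∈ R ⊔ U := mem_sup_left (by rw [hz, ← hcz]; exact hR.cz_mem)
  have hVle : V ≤ R ⊔ U := fun b hb => by
    rcases t.cover b hb with rfl | ⟨a, ha, e' | e'⟩
    · exact one_mem _
    · exact mem_sup_right (e' ▸ (Or.inr ha : a ∈ U))
    · exact e' ▸ mul_mem hzR (mem_sup_right (Or.inr ha : a ∈ U))
  have hsup : R ⊔ U = (P : Subgroup G) := by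
    refine le_antisymm (sup_le hRle fun x hx => h.isC_mem (hUC x hx))
      (h.split.sup.ge.trans (sup_le ?_ hVle))
    intro x hx
    have hc : c ∈ R ⊔ U := by
      have := mul_mem (mem_sup_left (T := U) hR.cmem) (inv_mem (hVle huV))
      rwa [mul_inv_cancel_right] at this
    have he : e ∈ R ⊔ U := by
      have := mul_mem (mem_sup_left (T := U) hR.emem) (inv_mem (hVle (hr 0)))
      rwa [mul_inv_cancel_right] at this
    obtain ⟨i, rfl | rfl⟩ := h.d.cases' x hx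
    exacts [zpow_mem hc i, mul_mem (zpow_mem hc i) he]
  have hsplit : Split P R U := ⟨hRle, fun x hx => h.isC_mem (hUC x hx), hcomm, hdisj, hsup⟩
  have hUsc : Cfsg.IsStronglyClosed U (P : Subgroup G) := by
    refine ⟨fun x hx => h.isC_mem (hUC x hx), fun x hx g hg => ?_⟩
    rcases hU x hx with rfl | hxt
    · rw [mul_one, mul_inv_cancel]; exact one_mem _
    have hc : IsConj x (g * x * g⁻¹) := isConj_iff.2 ⟨g, rfl⟩
    have hy2 : g * x * g⁻¹ * (g * x * g⁻¹) = 1 := by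
      rw [show g * x * g⁻¹ * (g * x * g⁻¹) = g * (x * x) * g⁻¹ by group, h.isC_sq (hUC x hx),
        mul_one, mul_inv_cancel]
    rcases h.cases_sq hg hy2 with hC | ⟨i, b, hb, hyb⟩
    · rcases h.tri_cases t hC with e' | e' | ⟨a, ha, e' | e'⟩
      · exact absurd (conj_eq_one_iff.1 e') (t.sep x hxt).1
      · exact absurd (h.eq_z (hUC x hx) (e' ▸ hc).symm) (t.sep x hxt).2
      · exact e' ▸ (Or.inr ha : a ∈ U)
      · exact absurd (e' ▸ hc) (h.tri_flip t hm hxt ha)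
    · exfalso
      rw [hyb] at hc
      by_cases hbr : b = r i
      · subst hbr
        exact (t.sep x hxt).2 (h.eq_z (hUC x hx) ((hrc i).trans hc.symm))
      · exact h.tri_flip t hm hxt (Or.inl rfl)
          (hc.trans (h.out_class t hr hrc hcl hm hb hbr))
  have hkl : IsKleinFour ↥U := by
    have hne01 : u₀ ≠ u₁ := fun e' => (t.sep u₂ (Or.inr (Or.inr rfl))).1 (by
      rw [← t.prod, ← e', s0])
    have hne02 : u₀ ≠ u₂ := fun e' => (t.sep u₁ (Or.inr (Or.inl rfl))).1 (by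
      rw [← e02, ← e', s0])
    have hne12 : u₁ ≠ u₂ := fun e' => (t.sep u₀ (Or.inl rfl)).1 (by
      rw [← e12, ← e', s1])
    refine ⟨?_, ?_⟩
    · rw [← SetLike.coe_sort_coe, Nat.card_coe_set_eq]
      show Set.ncard {x | x = 1 ∨ x = u₀ ∨ x = u₁ ∨ x = u₂} = 4
      rw [show {x | x = 1 ∨ x = u₀ ∨ x = u₁ ∨ x = u₂} = ({1, u₀, u₁, u₂} : Set G) by
        ext x; simp]
      rw [Set.ncard_insert_of_notMem _ (Set.toFinite _),
        Set.ncard_insert_of_notMem _ (Set.toFinite _), Set.ncard_pair hne12]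
      · simp [hne01, hne02]
      · simp [(t.sep u₀ (Or.inl rfl)).1.symm, (t.sep u₁ (Or.inr (Or.inl rfl))).1.symm,
          (t.sep u₂ (Or.inr (Or.inr rfl))).1.symm]
    · haveI : Nontrivial ↥U := ⟨⟨⟨u₀, Or.inr (Or.inl rfl)⟩, 1, fun e' =>
        (t.sep u₀ (Or.inl rfl)).1 (congrArg Subtype.val e')⟩⟩
      refine ((Nat.dvd_prime Nat.prime_two).1 ?_).resolve_left (Monoid.one_lt_exponent).ne'
      refine Monoid.exponent_dvd_of_forall_pow_eq_one fun x => Subtype.ext ?_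
      rw [pow_two]
      exact h.isC_sq (hUC x x.2)
  refine ⟨R, U, hsplit, ⟨_, ?_, hR.equiv⟩, ⟨2, le_rfl, IsKleinFour.nonempty_mulEquiv⟩,
    sc_of_class hsplit hR (fun x hx hx2 => ?_) (fun x hx hc => hclass x hx (by rwa [hcz] at hc)), hUsc⟩
  · exact le_trans (by norm_num) (Nat.pow_le_pow_right (by norm_num : 2 > 0)
      (show 1 ≤ n + 2 by omega))
  · rw [hcz]
    rcases hR.invol_cases hx hx2 with rfl | ⟨i, rfl⟩
    · rw [hcz]
    · exact hfused i

end Cfsg.Agent.DihProd
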