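import Cfsg.Agent.DihProd.Dih
import Cfsg.Agent.TwoTransfer.Basic
import Cfsg.Agent.Coprime.Tools
import Cfsg.Agent.Invol.SylowConj
import Cfsg.Prelude.Def_TwoFusion

/-!
A Sylow 2-subgroup which is a product of two commuting subgroups: fusion tools.
-/

set_option autoImplicit false
set_option linter.style.haveILetI false

namespace Cfsg.Agent.DihProd

open Subgroup
open scoped Pointwise

variable {G : Type*} [Group G]

/-- `P` is the internal product of `D₁` and `D₂`. -/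
structure Split (P : Sylow 2 G) (D₁ D₂ : Subgroup G) : Prop where
  le₁ : D₁ ≤ (P : Subgroup G)
  le₂ : D₂ ≤ (P : Subgroup G)
  comm : ∀ a ∈ D₁, ∀ b ∈ D₂, a * b = b * a
  disj : D₁ ⊓ D₂ = ⊥
  sup : D₁ ⊔ D₂ = (P : Subgroup G)

variable {P : Sylow 2 G} {D₁ D₂ : Subgroup G}

theorem Split.of_prod (h : Cfsg.IsInternalDirectProduct D₁ D₂ (P : Subgroup G)) : Split P D₁ D₂ :=
  ⟨h.1, h.2.1, h.2.2.1, h.2.2.2.1, h.2.2.2.2⟩

theorem Split.symm (h : Split P D₁ D₂) : Split P D₂ D₁ :=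
  ⟨h.le₂, h.le₁, fun a ha b hb => (h.comm b hb a ha).symm, by rw [inf_comm]; exact h.disj,
    by rw [sup_comm]; exact h.sup⟩

theorem Split.decomp (h : Split P D₁ D₂) {x : G} (hx : x ∈ P) :
    ∃ a ∈ D₁, ∃ b ∈ D₂, a * b = x := by
  have hn : D₂ ≤ normalizer (D₁ : Set G) :=
    le_trans (fun b hb => mem_centralizer_iff.2 fun a ha => h.comm a ha b hb)
      (centralizer_le_normalizer _)
  exact (Coprime.mem_sup_of_le_normalizer hn).1 (show x ∈ D₁ ⊔ D₂ by rw [h.sup]; exact hx)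

theorem Split.mem (h : Split P D₁ D₂) {a b : G} (ha : a ∈ D₁) (hb : b ∈ D₂) : a * b ∈ P :=
  mul_mem (h.le₁ ha) (h.le₂ hb)

theorem Split.uniq (h : Split P D₁ D₂) {a a' b b' : G} (ha : a ∈ D₁) (ha' : a' ∈ D₁) (hb : b ∈ D₂)
    (hb' : b' ∈ D₂) (e : a * b = a' * b') : a = a' ∧ b = b' := by
  have hm : b' * b⁻¹ ∈ D₁ ⊓ D₂ := by
    refine ⟨?_, D₂.mul_mem hb' (D₂.inv_mem hb)⟩
    rw [show b' * b⁻¹ = a'⁻¹ * (a' * b') * b⁻¹ by group, ← e, mul_assoc, mul_assoc a,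
      mul_inv_cancel, mul_one]
    exact D₁.mul_mem (D₁.inv_mem ha') ha
  rw [h.disj, Subgroup.mem_bot, mul_inv_eq_one] at hm
  exact ⟨by rw [hm] at e; exact mul_right_cancel e, hm.symm⟩

theorem Split.mul_mul (h : Split P D₁ D₂) {a a' b b' : G} (ha' : a' ∈ D₁)
    (hb : b ∈ D₂) : a * b * (a' * b') = a * a' * (b * b') := by
  rw [mul_assoc, ← mul_assoc b, ← h.comm a' ha' b hb]
  group

theorem Split.commute_parts (h : Split P D₁ D₂) {a a' b b' : G} (ha : a ∈ D₁) (ha' : a' ∈ D₁)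
    (hb : b ∈ D₂) (hb' : b' ∈ D₂) (hc : Commute (a * b) (a' * b')) :
    Commute a a' ∧ Commute b b' := by
  have e := hc.eq
  rw [h.mul_mul ha' hb, h.mul_mul ha hb'] at e
  exact h.uniq (mul_mem ha ha') (mul_mem ha' ha) (mul_mem hb hb') (mul_mem hb' hb) e

theorem Split.commute_mul (h : Split P D₁ D₂) {a a' b b' : G} (ha : a ∈ D₁) (ha' : a' ∈ D₁)
    (hb : b ∈ D₂) (hb' : b' ∈ D₂) (h1 : Commute a a') (h2 : Commute b b') :
    Commute (a * b) (a' * b') := by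
  show a * b * (a' * b') = a' * b' * (a * b)
  rw [h.mul_mul ha' hb, h.mul_mul ha hb', h1.eq, h2.eq]

theorem Split.sq_parts (h : Split P D₁ D₂) {a b : G} (ha : a ∈ D₁) (hb : b ∈ D₂)
    (hsq : a * b * (a * b) = 1) : a * a = 1 ∧ b * b = 1 := by
  rw [h.mul_mul ha hb] at hsq
  exact h.uniq (mul_mem ha ha) (one_mem _) (mul_mem hb hb) (one_mem _) (hsq.trans (one_mul 1).symm)

theorem Split.conj_mul (h : Split P D₁ D₂) {a b s t : G} (hb : b ∈ D₂) (hs : s ∈ D₁)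
    (ht : t ∈ D₂) (ha : a ∈ D₁) :
    s * t * (a * b) * (s * t)⁻¹ = (s * a * s⁻¹) * (t * b * t⁻¹) := by
  have h1 : t * a = a * t := (h.comm a ha t ht).symm
  have h2 : t * b * t⁻¹ * s⁻¹ = s⁻¹ * (t * b * t⁻¹) :=
    (h.comm _ (inv_mem hs) _ (mul_mem (mul_mem ht hb) (inv_mem ht))).symm
  calc s * t * (a * b) * (s * t)⁻¹ = s * (t * a) * b * t⁻¹ * s⁻¹ := by group
    _ = s * a * (t * b * t⁻¹ * s⁻¹) := by rw [h1]; group
    _ = (s * a * s⁻¹) * (t * b * t⁻¹) := by rw [h2]; group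

/-! ### Conjugation inside the Sylow subgroup -/

variable [Finite G]

theorem exists_extremal (P : Sylow 2 G) {x : G} (hx : x ∈ P) :
    ∃ y ∈ P, ∀ w ∈ P, IsConj x w →
      ∃ g : G, g * w * g⁻¹ = y ∧ ∀ u ∈ P, Commute u w → g * u * g⁻¹ ∈ P := by
  haveI : Fact (Nat.Prime 2) := ⟨Nat.prime_two⟩
  set C := centralizer ({x} : Set G) with hC
  obtain ⟨R, hR⟩ := ((P.2.to_le (inf_le_left : (P : Subgroup G) ⊓ C ≤ P)).comap_subtype :
    IsPGroup 2 (((P : Subgroup G) ⊓ C).subgroupOf C)).exists_le_sylow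
  obtain ⟨Q, hQ⟩ := (R.2.map C.subtype).exists_le_sylow
  obtain ⟨g, hg⟩ := MulAction.exists_smul_eq G Q P
  have hgP : ∀ t : ↥C, t ∈ R → g * (t : G) * g⁻¹ ∈ P := fun t ht => by
    rw [← hg]
    show g * (t : G) * g⁻¹ ∈ ((g • Q : Sylow 2 G) : Subgroup G)
    rw [Sylow.coe_subgroup_smul]
    exact ⟨t, hQ ⟨t, ht, rfl⟩, rfl⟩
  have hxC : x ∈ C := mem_centralizer_singleton_iff.2 rfl
  refine ⟨g * x * g⁻¹, hgP ⟨x, hxC⟩ (hR ⟨hx, hxC⟩), fun w hw hxw => ?_⟩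
  obtain ⟨k, rfl⟩ := isConj_iff.1 hxw
  set T : Subgroup G := ((P : Subgroup G) ⊓ centralizer ({k * x * k⁻¹} : Set G)).map
    (MulAut.conj k⁻¹).toMonoidHom with hT
  have hTC : T ≤ C := by
    rintro _ ⟨u, hu, rfl⟩
    refine mem_centralizer_singleton_iff.2 ?_
    show k⁻¹ * u * k⁻¹⁻¹ * x = x * (k⁻¹ * u * k⁻¹⁻¹)
    calc k⁻¹ * u * k⁻¹⁻¹ * x = k⁻¹ * (u * (k * x * k⁻¹)) * k := by group
      _ = k⁻¹ * ((k * x * k⁻¹) * u) * k := by rw [mem_centralizer_singleton_iff.1 hu.2]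
      _ = x * (k⁻¹ * u * k⁻¹⁻¹) := by group
  have hTp : IsPGroup 2 ↥T :=
    (P.2.to_le (inf_le_left : (P : Subgroup G) ⊓ centralizer ({k * x * k⁻¹} : Set G) ≤ P)).map _
  obtain ⟨R', hR'⟩ := (hTp.comap_subtype : IsPGroup 2 (T.subgroupOf C)).exists_le_sylow
  obtain ⟨m, hm⟩ := MulAction.exists_smul_eq (↥C) R' R
  refine ⟨g * (m : G) * k⁻¹, ?_, fun u hu huw => ?_⟩
  · calc g * (m : G) * k⁻¹ * (k * x * k⁻¹) * (g * (m : G) * k⁻¹)⁻¹
        = g * ((m : G) * x) * (m : G)⁻¹ * g⁻¹ := by group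
      _ = g * (x * (m : G)) * (m : G)⁻¹ * g⁻¹ := by rw [mem_centralizer_singleton_iff.1 m.2]
      _ = g * x * g⁻¹ := by group
  · have hmem : k⁻¹ * u * k⁻¹⁻¹ ∈ T := ⟨u, ⟨hu, mem_centralizer_singleton_iff.2 huw.eq⟩, rfl⟩
    have h1 : m * (⟨_, hTC hmem⟩ : ↥C) * m⁻¹ ∈ R := by
      rw [← hm]
      show _ ∈ ((m • R' : Sylow 2 ↥C) : Subgroup ↥C)
      rw [Sylow.coe_subgroup_smul]
      exact ⟨_, hR' (mem_subgroupOf.2 hmem), rfl⟩
    have := hgP _ h1
    simpa [mul_assoc] using this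

/-- An element conjugate to a central element of `P` is conjugate to it with the centraliser. -/
theorem to_central {x w : G} (hw : w ∈ P) (hwc : ∀ p ∈ P, Commute p w)
    (hxw : IsConj x w) :
    ∃ g : G, g * x * g⁻¹ = w ∧ ∀ u ∈ P, Commute u x → g * u * g⁻¹ ∈ P := by
  haveI : Fact (Nat.Prime 2) := ⟨Nat.prime_two⟩
  obtain ⟨k, rfl⟩ := isConj_iff.1 hxw
  set C := centralizer ({k * x * k⁻¹} : Set G) with hC
  have hPC : (P : Subgroup G) ≤ C := fun p hp => mem_centralizer_singleton_iff.2 (hwc p hp).eq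
  set T : Subgroup G := ((P : Subgroup G) ⊓ centralizer ({x} : Set G)).map
    (MulAut.conj k).toMonoidHom with hT
  have hTC : T ≤ C := by
    rintro _ ⟨u, hu, rfl⟩
    refine mem_centralizer_singleton_iff.2 ?_
    show k * u * k⁻¹ * (k * x * k⁻¹) = k * x * k⁻¹ * (k * u * k⁻¹)
    calc k * u * k⁻¹ * (k * x * k⁻¹) = k * (u * x) * k⁻¹ := by group
      _ = k * (x * u) * k⁻¹ := by rw [mem_centralizer_singleton_iff.1 hu.2]
      _ = k * x * k⁻¹ * (k * u * k⁻¹) := by group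
  have hTp : IsPGroup 2 ↥T :=
    (P.2.to_le (inf_le_left : (P : Subgroup G) ⊓ centralizer ({x} : Set G) ≤ P)).map _
  obtain ⟨R', hR'⟩ := (hTp.comap_subtype : IsPGroup 2 (T.subgroupOf C)).exists_le_sylow
  obtain ⟨m, hm⟩ := MulAction.exists_smul_eq (↥C) R' (P.subtype hPC)
  refine ⟨(m : G) * k, ?_, fun u hu hux => ?_⟩
  · calc (m : G) * k * x * ((m : G) * k)⁻¹ = (m : G) * (k * x * k⁻¹) * (m : G)⁻¹ := by group
      _ = k * x * k⁻¹ := by rw [mem_centralizer_singleton_iff.1 m.2, mul_inv_cancel_right]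
  · have hmem : k * u * k⁻¹ ∈ T := ⟨u, ⟨hu, mem_centralizer_singleton_iff.2 hux.eq⟩, rfl⟩
    have h1 : m * (⟨_, hTC hmem⟩ : ↥C) * m⁻¹ ∈ P.subtype hPC := by
      rw [← hm]
      show _ ∈ ((m • R' : Sylow 2 ↥C) : Subgroup ↥C)
      rw [Sylow.coe_subgroup_smul]
      exact ⟨_, hR' (mem_subgroupOf.2 hmem), rfl⟩
    have h2 : (m : G) * (k * u * k⁻¹) * (m : G)⁻¹ ∈ P := h1
    simpa [mul_assoc] using h2

theorem burnside {x y : G} (hxc : ∀ p ∈ P, Commute p x) (hyc : ∀ p ∈ P, Commute p y)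
    (h : IsConj x y) : ∃ n ∈ normalizer ((P : Subgroup G) : Set G), n * x * n⁻¹ = y := by
  haveI : Fact (Nat.Prime 2) := ⟨Nat.prime_two⟩
  obtain ⟨g, rfl⟩ := isConj_iff.1 h
  obtain ⟨n, hn, e⟩ := Sylow.conj_eq_normalizer_conj_of_mem_centralizer P x g⁻¹
    (mem_centralizer_iff.2 fun p hp => (hxc p hp).eq)
    (mem_centralizer_iff.2 fun p hp => by rw [inv_inv]; exact (hyc p hp).eq)
  refine ⟨n⁻¹, inv_mem hn, ?_⟩
  rw [inv_inv] at e ⊢
  exact e.symm

theorem exists_odd_pow {n : G} (hn : n ∈ normalizer ((P : Subgroup G) : Set G)) :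
    ∃ r : ℕ, Odd r ∧ n ^ r ∈ (P : Subgroup G) := by
  haveI : Fact (Nat.Prime 2) := ⟨Nat.prime_two⟩
  haveI : ((P : Subgroup G).subgroupOf (normalizer ((P : Subgroup G) : Set G))).Normal :=
    normal_subgroupOf_of_le_normalizer le_rfl
  refine ⟨((P : Subgroup G).subgroupOf (normalizer ((P : Subgroup G) : Set G))).index,
    Nat.not_even_iff_odd.1 fun he => P.not_dvd_index ((even_iff_two_dvd.1 he).trans
      (relIndex_dvd_index_of_le le_normalizer)), ?_⟩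
  exact Subgroup.pow_index_mem ((P : Subgroup G).subgroupOf (normalizer ((P : Subgroup G) : Set G)))
    (⟨n, hn⟩ : ↥(normalizer ((P : Subgroup G) : Set G)))

theorem odd_swap {n x y : G} (hn : n ∈ normalizer ((P : Subgroup G) : Set G))
    (hxc : ∀ p ∈ P, Commute p x) (h1 : n * x * n⁻¹ = y) (h2 : n * y * n⁻¹ = x) : x = y := by
  obtain ⟨r, ⟨j, rfl⟩, hr⟩ := exists_odd_pow hn
  have hsq : n ^ 2 * x * (n ^ 2)⁻¹ = x := by
    rw [pow_two, show n * n * x * (n * n)⁻¹ = n * (n * x * n⁻¹) * n⁻¹ by group, h1, h2]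
  have hev : ∀ i : ℕ, n ^ (2 * i) * x * (n ^ (2 * i))⁻¹ = x := fun i => by
    induction i with
    | zero => simp
    | succ i ih =>
      rw [show 2 * (i + 1) = 2 + 2 * i by ring, pow_add,
        show n ^ 2 * n ^ (2 * i) * x * (n ^ 2 * n ^ (2 * i))⁻¹ =
          n ^ 2 * (n ^ (2 * i) * x * (n ^ (2 * i))⁻¹) * (n ^ 2)⁻¹ by group, ih, hsq]
  have e : n ^ (2 * j + 1) * x * (n ^ (2 * j + 1))⁻¹ = y := by
    rw [add_comm, pow_add, pow_one,
      show n * n ^ (2 * j) * x * (n * n ^ (2 * j))⁻¹ =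
        n * (n ^ (2 * j) * x * (n ^ (2 * j))⁻¹) * n⁻¹ by group, hev, h1]
  rw [(hxc _ hr).eq, mul_inv_cancel_right] at e
  exact e

/-- Without a subgroup of index two each involution fuses into each subgroup of index two of `P`. -/
theorem fused_into (h2 : ∀ N : Subgroup G, N.Normal → N.index ≠ 2) {M : Subgroup G}
    (hM : M.relIndex (P : Subgroup G) = 2) {x : G} (hx : x ∈ P) (hxx : x * x = 1) :
    ∃ y ∈ M, y ∈ P ∧ IsConj x y := by
  by_contra hne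
  push Not at hne
  obtain ⟨N, hN, hNi, -⟩ := TwoTransfer.exists_index_two P M hM x hx (fun k g hk _ => by
    obtain ⟨i, rfl⟩ : ∃ i, k = i + 1 := ⟨k - 1, by omega⟩
    rw [pow_succ', pow_mul, pow_two, hxx, one_pow, mul_one, inv_mul_cancel]
    exact one_mem _) fun g hg hgM => hne _ hgM hg (isConj_iff.2 ⟨g⁻¹, by rw [inv_inv]⟩)
  exact h2 N hN hNi

omit [Finite G] in
theorem relIndex_two {M : Subgroup G} {a : G} (ha : a ∈ P)
    (h : ∀ b ∈ (P : Subgroup G), Xor (b * a ∈ M) (b ∈ M)) : M.relIndex (P : Subgroup G) = 2 := by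
  rw [relIndex, index_eq_two_iff]
  exact ⟨⟨a, ha⟩, fun b => h b b.2⟩

omit [Finite G] in
/-- The subgroup of index two missing the reflections of the first factor. -/
theorem Split.rot_relIndex {n : ℕ} {c e : G} (h : Split P D₁ D₂) (hd : Dih D₁ n c e) :
    (zpowers c ⊔ D₂).relIndex (P : Subgroup G) = 2 ∧
      ∀ x ∈ zpowers c ⊔ D₂, ∃ a ∈ zpowers c, ∃ b ∈ D₂, a * b = x := by
  have hcle : zpowers c ≤ D₁ := zpowers_le.2 hd.cmem
  have hn : D₂ ≤ normalizer ((zpowers c : Subgroup G) : Set G) :=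
    le_trans (fun b hb => mem_centralizer_iff.2 fun a ha => h.comm a (hcle ha) b hb)
      (centralizer_le_normalizer _)
  have hmem : ∀ x ∈ zpowers c ⊔ D₂, ∃ a ∈ zpowers c, ∃ b ∈ D₂, a * b = x :=
    fun x hx => (Coprime.mem_sup_of_le_normalizer hn).1 hx
  refine ⟨relIndex_two (h.le₁ hd.emem) fun x hx => ?_, hmem⟩
  obtain ⟨a, ha, b, hb, rfl⟩ := h.decomp hx
  have hbe : a * b * e = a * e * b := by rw [mul_assoc, ← h.comm e hd.emem b hb, mul_assoc]
  have key : ∀ a' ∈ D₁, a' * b ∈ zpowers c ⊔ D₂ ↔ a' ∈ zpowers c := fun a' ha' =>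
    ⟨fun hm => by
      obtain ⟨a'', ha'', b'', hb'', e'⟩ := hmem _ hm
      exact (h.uniq (hcle ha'') ha' hb'' hb e').1 ▸ ha'',
    fun hm => mul_mem (mem_sup_left hm) (mem_sup_right hb)⟩
  rw [hbe, key _ (mul_mem ha hd.emem), key _ ha]
  obtain ⟨i, rfl | rfl⟩ := hd.cases' a ha
  · exact Or.inr ⟨zpow_mem (mem_zpowers c) i, hd.refl_notMem i⟩
  · refine Or.inl ⟨?_, hd.refl_notMem i⟩
    rw [mul_assoc, hd.ee, mul_one]
    exact zpow_mem (mem_zpowers c) i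

/-- A dihedral factor whose involutions form a fusion class is strongly closed. -/
theorem sc_of_class {n : ℕ} {c e : G} (h : Split P D₁ D₂) (hd : Dih D₁ n c e)
    (hcls : ∀ x ∈ D₁, orderOf x = 2 → IsConj (cz n c) x)
    (hmem : ∀ x ∈ P, IsConj (cz n c) x → x ∈ D₁) :
    Cfsg.IsStronglyClosed D₁ (P : Subgroup G) := by
  haveI : Fact (Nat.Prime 2) := ⟨Nat.prime_two⟩
  have hinv : ∀ x ∈ D₁, x * x = 1 → ∀ g : G, g * x * g⁻¹ ∈ P → g * x * g⁻¹ ∈ D₁ := by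
    intro x hx hx2 g hg
    by_cases h1 : x = 1
    · rw [h1, mul_one, mul_inv_cancel]; exact one_mem _
    exact hmem _ hg ((hcls x hx (Invol.orderOf_eq_two_iff.2 ⟨h1, hx2⟩)).trans
      (isConj_iff.2 ⟨g, rfl⟩))
  refine ⟨h.le₁, ?_⟩
  suffices H : ∀ (j : ℕ) (i : ℤ), (c ^ i) ^ (2 ^ j) = 1 → ∀ g : G, g * c ^ i * g⁻¹ ∈ P →
      g * c ^ i * g⁻¹ ∈ D₁ by
    intro x hx g hg
    obtain ⟨i, rfl | rfl⟩ := hd.cases' x hx
    · exact H (n + 2) i (by
        rw [← zpow_natCast, ← zpow_mul, mul_comm, zpow_mul, zpow_natCast, ← hd.oc,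
          pow_orderOf_eq_one, one_zpow]) g hg
    · exact hinv _ hx (hd.refl_sq i) g hg
  intro j
  induction j with
  | zero =>
    intro i hi g _
    rw [pow_zero, pow_one] at hi
    rw [hi, mul_one, mul_inv_cancel]
    exact one_mem _
  | succ j ih =>
    intro i hi g hg
    set x := c ^ i with hx
    by_cases hx2 : x * x = 1
    · exact hinv x (zpow_mem hd.cmem i) hx2 g hg
    obtain ⟨a, ha, b, hb, hab⟩ := h.decomp hg
    have hsq : g * (x * x) * g⁻¹ = a * a * (b * b) := by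
      rw [← h.mul_mul ha hb, hab]; group
    have hsqD := ih (i + i) (by
      rw [zpow_add, ← pow_two, ← pow_mul, ← pow_succ']; exact hi) g (by
      rw [zpow_add, ← hx, hsq]
      exact h.mem (mul_mem ha ha) (mul_mem hb hb))
    rw [zpow_add, ← hx, hsq] at hsqD
    obtain ⟨-, hb2⟩ := h.uniq hsqD (mul_mem ha ha) (one_mem _) (mul_mem hb hb) (mul_one _)
    replace hb2 : b * b = 1 := hb2.symm
    -- `a` is a rotation
    obtain ⟨k, rfl⟩ : ∃ k : ℤ, a = c ^ k := by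
      obtain ⟨k, rfl | rfl⟩ := hd.cases' a ha
      · exact ⟨k, rfl⟩
      · exfalso
        rw [hd.refl_sq, hb2, one_mul] at hsq
        exact hx2 (conj_eq_one_iff.1 hsq)
    have hbc : Commute (c ^ k) b := h.comm _ ha b hb
    have hbi : b⁻¹ = b := inv_eq_of_mul_eq_one_right hb2
    set y := c ^ k * b with hy
    set Q := closure ({e, c ^ (1 : ℤ) * e, b} : Set G) with hQ
    have hQP : Q ≤ (P : Subgroup G) := by
      rw [hQ, closure_le]
      rintro t (rfl | rfl | rfl)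
      exacts [h.le₁ hd.emem, h.le₁ (hd.refl_mem 1), h.le₂ hb]
    have hflip : ∀ i' : ℤ, c ^ i' * e * y * (c ^ i' * e)⁻¹ = y⁻¹ := fun i' => by
      have hb' : Commute (c ^ i' * e) b := h.comm _ (hd.refl_mem i') b hb
      rw [hy, show c ^ i' * e * (c ^ k * b) * (c ^ i' * e)⁻¹ =
          (c ^ i' * e * c ^ k * (c ^ i' * e)⁻¹) * (c ^ i' * e * b * (c ^ i' * e)⁻¹) by group,
        hd.refl_conj_rot, hb'.eq, mul_inv_cancel_right, mul_inv_rev, hbi, zpow_neg,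
        hbc.inv_left.eq]
    have hQN : Q ≤ normalizer ((zpowers y : Subgroup G) : Set G) := by
      rw [hQ, closure_le]
      intro t ht
      have hy1 : t * y * t⁻¹ = y ∨ t * y * t⁻¹ = y⁻¹ := by
        rcases ht with rfl | rfl | rfl
        · have := hflip 0
          rw [zpow_zero, one_mul] at this
          exact Or.inr this
        · exact Or.inr (hflip 1)
        · left
          rw [((hbc.symm.mul_right (Commute.refl t)) : Commute t y).eq, mul_inv_cancel_right]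
      rw [SetLike.mem_coe, mem_normalizer_iff_map_conj_eq, MonoidHom.map_zpowers]
      show zpowers (t * y * t⁻¹) = zpowers y
      rcases hy1 with e1 | e1 <;> rw [e1]
      exact zpowers_inv
    set N := normalizer ((zpowers x : Subgroup G) : Set G) with hN
    have hPN : (P : Subgroup G) ≤ N := by
      intro p hp
      obtain ⟨s, hs, t, ht, rfl⟩ := h.decomp hp
      refine mul_mem ?_ (centralizer_le_normalizer _ (mem_centralizer_iff.2 fun u hu =>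
        h.comm u ((zpowers_le.2 (zpow_mem hd.cmem i) : zpowers x ≤ D₁) hu) t ht))
      rw [mem_normalizer_iff_map_conj_eq, MonoidHom.map_zpowers]
      show zpowers (s * x * s⁻¹) = zpowers x
      obtain ⟨l, rfl | rfl⟩ := hd.cases' s hs
      · rw [hx, (Commute.zpow_zpow_self c l i).eq, mul_inv_cancel_right]
      · rw [hx, hd.refl_conj_rot, zpow_neg, zpowers_inv]
    set T := Q.map (MulAut.conj g⁻¹).toMonoidHom with hT
    have hyx : g⁻¹ * y * g = x := by rw [hab]; group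
    have hTN : T ≤ N := by
      rintro _ ⟨q, hq, rfl⟩
      rw [hN, mem_normalizer_iff_map_conj_eq, MonoidHom.map_zpowers]
      have hm := hQN hq
      rw [mem_normalizer_iff_map_conj_eq, MonoidHom.map_zpowers] at hm
      have hm' := congrArg (Subgroup.map (MulAut.conj g⁻¹).toMonoidHom) hm
      rw [MonoidHom.map_zpowers, MonoidHom.map_zpowers] at hm'
      have e1 : (MulAut.conj g⁻¹).toMonoidHom y = x := by
        show g⁻¹ * y * g⁻¹⁻¹ = x
        rw [inv_inv]; exact hyx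
      rw [e1] at hm'
      have e2 : (MulAut.conj g⁻¹).toMonoidHom ((MulAut.conj q) y) =
          (g⁻¹ * q * g⁻¹⁻¹) * x * (g⁻¹ * q * g⁻¹⁻¹)⁻¹ := by
        show g⁻¹ * (q * y * q⁻¹) * g⁻¹⁻¹ = _
        rw [← hyx]; group
      rw [← hm']
      exact congrArg zpowers e2.symm
    obtain ⟨R, hR⟩ := (((P.2.to_le hQP).map _).comap_subtype :
      IsPGroup 2 (T.subgroupOf N)).exists_le_sylow
    obtain ⟨m, hm⟩ := MulAction.exists_smul_eq (↥N) R (P.subtype hPN)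
    set κ := (m : G) * g⁻¹ with hκ
    have hκP : ∀ q ∈ Q, κ * q * κ⁻¹ ∈ P := fun q hq => by
      have hq' : g⁻¹ * q * g⁻¹⁻¹ ∈ T := ⟨q, hq, rfl⟩
      have h1 : m * (⟨_, hTN hq'⟩ : ↥N) * m⁻¹ ∈ P.subtype hPN := by
        rw [← hm]
        show _ ∈ ((m • R : Sylow 2 ↥N) : Subgroup ↥N)
        rw [Sylow.coe_subgroup_smul]
        exact ⟨_, hR (mem_subgroupOf.2 hq'), rfl⟩
      have h2 : (m : G) * (g⁻¹ * q * g⁻¹⁻¹) * (m : G)⁻¹ ∈ P := h1
      rw [hκ]
      simpa [mul_assoc] using h2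
    have hκy : κ * y * κ⁻¹ ∈ D₁ := by
      have e1 : κ * y * κ⁻¹ = (m : G) * x * (m : G)⁻¹ := by rw [hκ, ← hyx]; group
      rw [e1]
      exact (zpowers_le.2 (zpow_mem hd.cmem i) : zpowers x ≤ D₁)
        ((mem_normalizer_iff.1 m.2 x).1 (mem_zpowers x))
    have hκe : κ * e * κ⁻¹ ∈ D₁ :=
      hinv e hd.emem hd.ee κ (hκP e (subset_closure (by simp)))
    have hκce : κ * (c ^ (1 : ℤ) * e) * κ⁻¹ ∈ D₁ :=
      hinv _ (hd.refl_mem 1) (hd.refl_sq 1) κ (hκP _ (subset_closure (by simp)))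
    have hκc : κ * c ^ k * κ⁻¹ ∈ D₁ := by
      have h1 := zpow_mem (mul_mem hκce hκe) k
      rwa [show κ * (c ^ (1 : ℤ) * e) * κ⁻¹ * (κ * e * κ⁻¹) = κ * (c * (e * e)) * κ⁻¹ by group,
        hd.ee, mul_one, conj_zpow] at h1
    have hκb : κ * b * κ⁻¹ ∈ D₁ := by
      rw [show κ * b * κ⁻¹ = (κ * c ^ k * κ⁻¹)⁻¹ * (κ * y * κ⁻¹) by rw [hy]; group]
      exact mul_mem (inv_mem hκc) hκy
    have hb1 : b = 1 := by
      by_contra hne
      have ho : orderOf (κ * b * κ⁻¹) = 2 :=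
        (Invol.orderOf_conj κ b).trans (Invol.orderOf_eq_two_iff.2 ⟨hne, hb2⟩)
      have hbD : b ∈ D₁ ⊓ D₂ :=
        ⟨hmem b (h.le₂ hb) ((hcls _ hκb ho).trans (isConj_iff.2 ⟨κ⁻¹, by group⟩)), hb⟩
      rw [h.disj, Subgroup.mem_bot] at hbD
      exact hne hbD
    rw [← hab, hy, hb1, mul_one]
    exact ha

end Cfsg.Agent.DihProd
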