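import Cfsg.Agent.Invol.Pair
import Mathlib.GroupTheory.SpecificGroups.Dihedral
import Mathlib.GroupTheory.Sylow
import Mathlib.Tactic

/-!
Dihedral 2-subgroups of order at least eight, given by a rotation and a reflection.
-/

set_option autoImplicit false
set_option linter.style.haveILetI false

namespace Cfsg.Agent.DihProd

open Subgroup

variable {G : Type*} [Group G]

/-- `D` is dihedral of order `2 ^ (n + 3)` with rotation `c` and reflection `e`. -/
structure Dih (D : Subgroup G) (n : ℕ) (c e : G) : Prop where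
  cmem : c ∈ D
  emem : e ∈ D
  ee : e * e = 1
  ec : e * c * e⁻¹ = c⁻¹
  oc : orderOf c = 2 ^ (n + 2)
  en : e ∉ zpowers c
  cases' : ∀ x ∈ D, ∃ i : ℤ, x = c ^ i ∨ x = c ^ i * e

/-- The central involution. -/
def cz (n : ℕ) (c : G) : G := c ^ (2 ^ (n + 1))

variable {D : Subgroup G} {n : ℕ} {c e : G}

theorem Dih.cz_mem_zpowers : cz n c ∈ zpowers c := pow_mem (mem_zpowers c) _

theorem Dih.cz_mem (h : Dih D n c e) : cz n c ∈ D := pow_mem h.cmem _

theorem Dih.orderOf_cz (h : Dih D n c e) : orderOf (cz n c) = 2 := by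
  rw [cz, orderOf_pow_of_dvd (by positivity) (h.oc ▸ pow_dvd_pow 2 (by omega)), h.oc,
    Nat.pow_div (by omega) (by norm_num), show n + 2 - (n + 1) = 1 by omega, pow_one]

theorem Dih.cz_sq (h : Dih D n c e) : cz n c * cz n c = 1 := Invol.mul_self_eq_one h.orderOf_cz

theorem Dih.einv (h : Dih D n c e) : e⁻¹ = e := inv_eq_of_mul_eq_one_right h.ee

theorem Dih.e_zpow (h : Dih D n c e) (i : ℤ) : e * c ^ i = c ^ (-i) * e := by
  have h1 : e * c ^ i * e⁻¹ = c ^ (-i) := by rw [← conj_zpow, h.ec, inv_zpow, zpow_neg]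
  rw [← h1, inv_mul_cancel_right]

theorem Dih.refl_mul_refl (h : Dih D n c e) (i j : ℤ) : c ^ i * e * (c ^ j * e) = c ^ (i - j) := by
  rw [mul_assoc, ← mul_assoc e, h.e_zpow, mul_assoc, h.ee, mul_one, ← zpow_add, sub_eq_add_neg]

theorem Dih.refl_sq (h : Dih D n c e) (i : ℤ) : c ^ i * e * (c ^ i * e) = 1 := by
  rw [h.refl_mul_refl, sub_self, zpow_zero]

theorem Dih.refl_notMem (h : Dih D n c e) (i : ℤ) : c ^ i * e ∉ zpowers c := fun hm =>
  h.en (((zpowers c).mul_mem_cancel_left (zpow_mem (mem_zpowers c) i)).1 hm)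

theorem Dih.refl_ne_one (h : Dih D n c e) (i : ℤ) : c ^ i * e ≠ 1 := fun hm =>
  h.refl_notMem i (hm ▸ one_mem _)

theorem Dih.orderOf_refl (h : Dih D n c e) (i : ℤ) : orderOf (c ^ i * e) = 2 :=
  Invol.orderOf_eq_two_iff.2 ⟨h.refl_ne_one i, h.refl_sq i⟩

theorem Dih.refl_mem (h : Dih D n c e) (i : ℤ) : c ^ i * e ∈ D := mul_mem (zpow_mem h.cmem i) h.emem

theorem Dih.refl_conj_rot (h : Dih D n c e) (i j : ℤ) :
    c ^ i * e * c ^ j * (c ^ i * e)⁻¹ = c ^ (-j) := by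
  rw [mul_assoc (c ^ i) e, h.e_zpow, ← mul_assoc, ← zpow_add, add_comm, zpow_add, mul_assoc (c ^ (-j)),
    mul_inv_cancel_right]

theorem Dih.rot_conj_refl (h : Dih D n c e) (i j : ℤ) :
    c ^ j * (c ^ i * e) * (c ^ j)⁻¹ = c ^ (i + 2 * j) * e := by
  rw [← zpow_neg, mul_assoc, mul_assoc, h.e_zpow, neg_neg, ← mul_assoc, ← mul_assoc, ← zpow_add,
    ← zpow_add]
  congr 2
  ring

theorem Dih.zpow_eq_cz_of_sq (h : Dih D n c e) {x : G} (hx : x ∈ zpowers c) (h2 : orderOf x = 2) :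
    x = cz n c := by
  haveI : Finite (zpowers c) :=
    Nat.finite_of_card_ne_zero (by rw [Nat.card_zpowers, h.oc]; positivity)
  obtain ⟨k, rfl⟩ := mem_zpowers_iff.1 hx
  have hd : (2 ^ (n + 2) : ℤ) ∣ k * 2 := by
    have h1 : c ^ (k * 2) = 1 := by
      rw [zpow_mul]
      exact_mod_cast (h2 ▸ pow_orderOf_eq_one (c ^ k) : (c ^ k) ^ 2 = 1)
    have := orderOf_dvd_iff_zpow_eq_one.2 h1
    rw [h.oc] at this
    exact_mod_cast this
  have hd' : (2 ^ (n + 1) : ℤ) ∣ k := by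
    rw [show (2 : ℤ) ^ (n + 2) = 2 ^ (n + 1) * 2 by ring] at hd
    exact Int.dvd_of_mul_dvd_mul_right (by norm_num) hd
  obtain ⟨q, rfl⟩ := hd'
  have he : c ^ ((2 ^ (n + 1) : ℤ) * q) = cz n c ^ q := by
    rw [cz, zpow_mul, ← zpow_natCast c (2 ^ (n + 1))]
    norm_num
  rw [he] at h2 ⊢
  rcases Int.even_or_odd q with ⟨r, rfl⟩ | ⟨r, rfl⟩
  · rw [← two_mul, zpow_mul, zpow_two, h.cz_sq, one_zpow, orderOf_one] at h2
    omega
  · rw [zpow_add, zpow_mul, zpow_two, h.cz_sq, one_zpow, one_mul, zpow_one]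

theorem Dih.invol_cases (h : Dih D n c e) {x : G} (hx : x ∈ D) (h2 : orderOf x = 2) :
    x = cz n c ∨ ∃ i : ℤ, x = c ^ i * e := by
  obtain ⟨i, rfl | rfl⟩ := h.cases' x hx
  · exact Or.inl (h.zpow_eq_cz_of_sq (zpow_mem (mem_zpowers c) i) h2)
  · exact Or.inr ⟨i, rfl⟩

theorem Dih.sq_mem (h : Dih D n c e) {x : G} (hx : x ∈ D) : x * x ∈ zpowers c := by
  obtain ⟨i, rfl | rfl⟩ := h.cases' x hx
  · exact mul_mem (zpow_mem (mem_zpowers c) i) (zpow_mem (mem_zpowers c) i)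
  · rw [h.refl_sq]; exact one_mem _

theorem Dih.cz_comm (h : Dih D n c e) {x : G} (hx : x ∈ D) : Commute x (cz n c) := by
  have hc : Commute c (cz n c) := (Commute.refl c).pow_right _
  have he : Commute e (cz n c) := by
    show e * cz n c = cz n c * e
    rw [cz, ← zpow_natCast, h.e_zpow, zpow_neg, zpow_natCast]
    congr 1
    exact inv_eq_of_mul_eq_one_right h.cz_sq
  obtain ⟨i, rfl | rfl⟩ := h.cases' x hx
  · exact hc.zpow_left i
  · exact (hc.zpow_left i).mul_left he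

/-- The rotation of order four. -/
theorem Dih.exists_root (h : Dih D n c e) : ∃ q ∈ D, q * q = cz n c ∧
    ∀ i : ℤ, q * (c ^ i * e) * q⁻¹ = cz n c * (c ^ i * e) := by
  refine ⟨c ^ ((2 ^ n : ℕ) : ℤ), zpow_mem h.cmem _, ?_, fun i => ?_⟩
  · rw [zpow_natCast, ← pow_add, cz, pow_succ]; congr 1; ring
  · rw [h.rot_conj_refl, cz, ← zpow_natCast c (2 ^ (n + 1)), ← mul_assoc, ← zpow_add]
    congr 2
    push_cast
    ring

theorem Dih.commute_refl (h : Dih D n c e) {i : ℤ} {x : G} (hx : x ∈ D)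
    (hc : Commute x (c ^ i * e)) :
    x = 1 ∨ x = cz n c ∨ x = c ^ i * e ∨ x = cz n c * (c ^ i * e) := by
  have key : ∀ y ∈ zpowers c, y * y = 1 → y = 1 ∨ y = cz n c := fun y hy hy2 => by
    by_cases h1 : y = 1
    · exact Or.inl h1
    · exact Or.inr (h.zpow_eq_cz_of_sq hy (Invol.orderOf_eq_two_iff.2 ⟨h1, hy2⟩))
  obtain ⟨j, rfl | rfl⟩ := h.cases' x hx
  · have h1 : c ^ i * e * c ^ j * (c ^ i * e)⁻¹ = c ^ j := by
      rw [← hc.eq, mul_inv_cancel_right]
    rw [h.refl_conj_rot] at h1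
    rcases key _ (zpow_mem (mem_zpowers c) j) (by
      conv_lhs => lhs; rw [← h1]
      rw [← zpow_add, neg_add_cancel, zpow_zero]) with e1 | e1
    · exact Or.inl e1
    · exact Or.inr (Or.inl e1)
  · have h1 := hc.eq
    rw [h.refl_mul_refl, h.refl_mul_refl] at h1
    rcases key _ (zpow_mem (mem_zpowers c) (j - i)) (by
      conv_lhs => rhs; rw [h1]
      rw [← zpow_add, show j - i + (i - j) = 0 by ring, zpow_zero]) with e1 | e1
    · refine Or.inr (Or.inr (Or.inl ?_))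
      have := zpow_add c (j - i) i
      rw [sub_add_cancel, e1, one_mul] at this
      rw [this]
    · refine Or.inr (Or.inr (Or.inr ?_))
      have := zpow_add c (j - i) i
      rw [sub_add_cancel, e1] at this
      rw [this, mul_assoc]

theorem Dih.commute_refls (h : Dih D n c e) {i j : ℤ} (hc : Commute (c ^ j * e) (c ^ i * e)) :
    c ^ j * e = c ^ i * e ∨ c ^ j * e = cz n c * (c ^ i * e) := by
  rcases h.commute_refl (h.refl_mem j) hc with e1 | e1 | e1 | e1
  · exact absurd e1 (h.refl_ne_one j)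
  · exact absurd (e1 ▸ Dih.cz_mem_zpowers) (h.refl_notMem j)
  · exact Or.inl e1
  · exact Or.inr e1

theorem Dih.center_cases (h : Dih D n c e) {x : G} (hx : x ∈ D) (hc : ∀ y ∈ D, Commute x y) :
    x = 1 ∨ x = cz n c := by
  rcases h.commute_refl (i := 0) hx (hc _ (h.refl_mem 0)) with e1 | e1 | e1 | e1
  · exact Or.inl e1
  · exact Or.inr e1
  all_goals
    exfalso
    have h1 := (hc c h.cmem).eq
    rw [e1, zpow_zero, one_mul] at h1
    have h2 : e * c * e⁻¹ = c := by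
      first
        | rw [h1, mul_inv_cancel_right]
        | (have hz : Commute c (cz n c) := h.cz_comm h.cmem
           rw [mul_assoc, ← mul_assoc c, hz.eq, mul_assoc] at h1
           rw [mul_left_cancel h1, mul_inv_cancel_right])
    rw [h.ec] at h2
    have h3 : orderOf c ∣ 2 := orderOf_dvd_of_pow_eq_one (by
      rw [pow_two]; nth_rewrite 1 [← h2]; rw [inv_mul_cancel])
    rw [h.oc] at h3
    have := Nat.le_of_dvd (by norm_num) h3
    have : 2 ^ 2 ≤ 2 ^ (n + 2) := Nat.pow_le_pow_right (by norm_num) (by omega)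
    omega

/-- Multiplying the generators by commuting involutions keeps the shape. -/
theorem Dih.twist (h : Dih D n c e) {u v : G} (huc : ∀ x ∈ D, Commute u x)
    (hvc : ∀ x ∈ D, Commute v x) (huv : Commute u v) (hu : u * u = 1) (hv : v * v = 1)
    (hnu : ∀ i : ℤ, c ^ i * e * v ∉ zpowers c) (hnv : ∀ i : ℤ, c ^ i * e * v * u ∉ zpowers c) :
    Dih (closure ({c * u, e * v} : Set G)) n (c * u) (e * v) ∧ cz n (c * u) = cz n c := by
  have hu2 : u ^ 2 = 1 := by rw [pow_two, hu]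
  have hcu : Commute c u := (huc c h.cmem).symm
  have hev : Commute e v := (hvc e h.emem).symm
  have hoc : orderOf (c * u) = 2 ^ (n + 2) ∧ cz n (c * u) = cz n c := by
    have e2 : (c * u) ^ (2 ^ (n + 1)) = cz n c := by
      rw [hcu.mul_pow, pow_succ', pow_mul u, hu2, one_pow, mul_one, cz, pow_succ']
    refine ⟨orderOf_eq_prime_pow ?_ ?_, e2⟩
    · rw [e2]; exact Invol.ne_one h.orderOf_cz
    · rw [pow_succ, pow_mul, e2, pow_two, h.cz_sq]
  have hecu : e * v * (c * u) * (e * v)⁻¹ = (c * u)⁻¹ := by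
    have hui : u⁻¹ = u := inv_eq_of_mul_eq_one_right hu
    have h1 : v * (c * u) * v⁻¹ = c * u := by
      rw [(Commute.mul_right (hvc c h.cmem) huv.symm).eq, mul_inv_cancel_right]
    calc e * v * (c * u) * (e * v)⁻¹ = e * (v * (c * u) * v⁻¹) * e⁻¹ := by group
      _ = e * c * (u * e⁻¹) := by rw [h1]; group
      _ = e * c * (e⁻¹ * u) := by rw [(huc e h.emem).inv_right.eq]
      _ = c⁻¹ * u := by rw [← mul_assoc, h.ec]
      _ = (c * u)⁻¹ := by rw [mul_inv_rev, hui, ← hcu.inv_left.eq]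
  have hen : e * v ∉ zpowers (c * u) := fun hm => by
    obtain ⟨i, hi⟩ := mem_zpowers_iff.1 hm
    rw [hcu.mul_zpow] at hi
    rcases Int.even_or_odd i with ⟨r, hr⟩ | ⟨r, hr⟩
    · rw [hr, ← two_mul, zpow_mul u, show u ^ (2 : ℤ) = 1 by rw [zpow_two, hu], one_zpow,
        mul_one] at hi
      refine hnu 0 ?_
      rw [zpow_zero, one_mul, ← hi]
      exact zpow_mem (mem_zpowers c) _
    · rw [hr, zpow_add u, zpow_mul u, show u ^ (2 : ℤ) = 1 by rw [zpow_two, hu], one_zpow,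
        one_mul, zpow_one] at hi
      refine hnv 0 ?_
      rw [zpow_zero, one_mul, ← hi, mul_assoc, hu, mul_one]
      exact zpow_mem (mem_zpowers c) _
  refine ⟨⟨subset_closure (Or.inl rfl), subset_closure (Or.inr rfl), ?_, hecu, hoc.1, hen,
    fun x hx => ?_⟩, hoc.2⟩
  · calc e * v * (e * v) = e * e * (v * v) := by
          rw [mul_assoc e v, ← mul_assoc v, ← hev.eq]; group
      _ = 1 := by rw [h.ee, hv, one_mul]
  set C := c * u with hC
  set F := e * v with hF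
  have hFF : F * F = 1 := by
    calc e * v * (e * v) = e * e * (v * v) := by
          rw [mul_assoc e v, ← mul_assoc v, ← hev.eq]; group
      _ = 1 := by rw [h.ee, hv, one_mul]
  have hF' : ∀ i : ℤ, F * C ^ i = C ^ (-i) * F := fun i => by
    have h1 : F * C ^ i * F⁻¹ = C ^ (-i) := by rw [← conj_zpow, hecu, inv_zpow, zpow_neg]
    rw [← h1, inv_mul_cancel_right]
  refine closure_induction (p := fun x _ => ∃ i : ℤ, x = C ^ i ∨ x = C ^ i * F) ?_ ?_ ?_ ?_ hx
  · rintro y (rfl | rfl)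
    · exact ⟨1, Or.inl (zpow_one _).symm⟩
    · exact ⟨0, Or.inr (by rw [zpow_zero, one_mul])⟩
  · exact ⟨0, Or.inl (zpow_zero _).symm⟩
  · rintro p q - - ⟨i, rfl | rfl⟩ ⟨j, rfl | rfl⟩
    · exact ⟨i + j, Or.inl (zpow_add _ _ _).symm⟩
    · exact ⟨i + j, Or.inr (by rw [← mul_assoc, zpow_add])⟩
    · exact ⟨i - j, Or.inr (by rw [mul_assoc, hF', ← mul_assoc, ← zpow_add, ← sub_eq_add_neg])⟩
    · exact ⟨i - j, Or.inl (by
        rw [mul_assoc, ← mul_assoc F, hF', mul_assoc, hFF, mul_one, ← zpow_add, ← sub_eq_add_neg])⟩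
  · rintro p - ⟨i, rfl | rfl⟩
    · exact ⟨-i, Or.inl (by rw [zpow_neg])⟩
    · exact ⟨i, Or.inr (by
        rw [mul_inv_rev, inv_eq_of_mul_eq_one_right hFF, ← zpow_neg, hF', neg_neg])⟩

/-- A dihedral group gives the data. -/
theorem exists_dih {m : ℕ} (hm : 4 ≤ m) (hp : IsPGroup 2 ↥D) (ψ : ↥D ≃* DihedralGroup m) :
    ∃ (n : ℕ) (c e : G), Dih D n c e := by
  haveI : Fact (Nat.Prime 2) := ⟨Nat.prime_two⟩
  haveI : NeZero m := ⟨by omega⟩
  haveI : Finite ↥D := Finite.of_equiv _ ψ.symm.toEquiv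
  obtain ⟨j, hj⟩ := IsPGroup.iff_card.1 hp
  rw [Nat.card_congr ψ.toEquiv, DihedralGroup.nat_card] at hj
  obtain ⟨n, rfl⟩ : ∃ n, j = n + 3 := ⟨j - 3, by
    rcases Nat.lt_or_ge j 3 with h | h
    · interval_cases j <;> omega
    · omega⟩
  obtain rfl : m = 2 ^ (n + 2) := by
    rw [pow_succ'] at hj; omega
  let ι : DihedralGroup (2 ^ (n + 2)) →* G := D.subtype.comp ψ.symm.toMonoidHom
  have hinj : Function.Injective ι := fun a b h => ψ.symm.injective (D.subtype_injective h)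
  refine ⟨n, ι (DihedralGroup.r 1), ι (DihedralGroup.sr 0), ⟨(ψ.symm _).2, (ψ.symm _).2, ?_, ?_, ?_,
    ?_, ?_⟩⟩
  · rw [← map_mul, DihedralGroup.sr_mul_sr, sub_self, ← DihedralGroup.one_def, map_one]
  · rw [← map_inv, ← map_inv, ← map_mul, ← map_mul, DihedralGroup.inv_sr, DihedralGroup.inv_r,
      DihedralGroup.sr_mul_r, DihedralGroup.sr_mul_sr]
    congr 2
    ring
  · rw [orderOf_injective ι hinj, DihedralGroup.orderOf_r_one]
  · intro hm'
    rw [← MonoidHom.map_zpowers, mem_map_iff_mem hinj] at hm'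
    obtain ⟨k, hk⟩ := mem_zpowers_iff.1 hm'
    rw [DihedralGroup.r_one_zpow] at hk
    cases hk
  · intro x hx
    obtain ⟨d, hd⟩ : ∃ d, ι d = x := ⟨ψ ⟨x, hx⟩, by simp [ι]⟩
    subst hd
    have hr : ∀ a : ZMod (2 ^ (n + 2)), ∃ i : ℤ, ι (DihedralGroup.r 1) ^ i = ι (DihedralGroup.r a) :=
      fun a => ⟨(a.val : ℤ), by
        rw [← map_zpow, zpow_natCast, DihedralGroup.r_one_pow, ZMod.natCast_zmod_val]⟩
    rcases d with a | a
    · obtain ⟨i, hi⟩ := hr a; exact ⟨i, Or.inl hi.symm⟩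
    · obtain ⟨i, hi⟩ := hr (-a)
      exact ⟨i, Or.inr (by rw [hi, ← map_mul, DihedralGroup.r_mul_sr, zero_sub, neg_neg])⟩

/-- The data give a dihedral group. -/
theorem Dih.equiv (h : Dih D n c e) : Nonempty (↥D ≃* DihedralGroup (2 ^ (n + 2))) := by
  haveI : NeZero (2 ^ (n + 2)) := ⟨by positivity⟩
  have hmod : ∀ a : ℤ, c ^ a = c ^ (((a : ZMod (2 ^ (n + 2))).val : ℕ) : ℤ) := fun a => by
    rw [ZMod.val_intCast, ← h.oc, ← zpow_mod_orderOf]
  have hcast : ∀ a : ZMod (2 ^ (n + 2)), (((a.val : ℕ) : ℤ) : ZMod (2 ^ (n + 2))) = a := fun a => by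
    rw [Int.cast_natCast, ZMod.natCast_zmod_val]
  let f : DihedralGroup (2 ^ (n + 2)) → G := fun
    | DihedralGroup.r a => c ^ (a.val : ℤ)
    | DihedralGroup.sr a => c ^ (-(a.val : ℤ)) * e
  have hr : ∀ a : ℤ, f (DihedralGroup.r (a : ZMod (2 ^ (n + 2)))) = c ^ a := fun a => (hmod a).symm
  have hs : ∀ a : ℤ, f (DihedralGroup.sr (a : ZMod (2 ^ (n + 2)))) = c ^ (-a) * e := fun a => by
    show c ^ (-(((a : ZMod (2 ^ (n + 2))).val : ℕ) : ℤ)) * e = _
    rw [zpow_neg, ← hmod, zpow_neg]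
  let ψ : DihedralGroup (2 ^ (n + 2)) →* ↥D :=
    MonoidHom.mk' (fun d => ⟨f d, by
      rcases d with a | a
      · exact zpow_mem h.cmem _
      · exact h.refl_mem _⟩) (by
      intro x y
      refine Subtype.ext ?_
      show f (x * y) = f x * f y
      rcases x with a | a <;> rcases y with b | b <;> rw [← hcast a, ← hcast b]
      · rw [DihedralGroup.r_mul_r, ← Int.cast_add, hr, hr, hr, zpow_add]
      · rw [DihedralGroup.r_mul_sr, ← Int.cast_sub, hr, hs, hs, ← mul_assoc, ← zpow_add]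
        congr 2; ring
      · rw [DihedralGroup.sr_mul_r, ← Int.cast_add, hs, hs, hr, mul_assoc, h.e_zpow, ← mul_assoc,
          ← zpow_add, neg_add]
      · rw [DihedralGroup.sr_mul_sr, ← Int.cast_sub, hr, hs, hs, h.refl_mul_refl]
        congr 1; ring)
  refine ⟨(MulEquiv.ofBijective ψ ⟨?_, ?_⟩).symm⟩
  · refine (injective_iff_map_eq_one ψ).2 fun d hd => ?_
    have hd' : f d = 1 := congrArg Subtype.val hd
    rcases d with a | a
    · have h1 : orderOf c ∣ a.val := orderOf_dvd_of_pow_eq_one (by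
        rw [← zpow_natCast]; exact hd')
      rw [h.oc] at h1
      have h2 := Nat.eq_zero_of_dvd_of_lt h1 (ZMod.val_lt a)
      rw [(ZMod.val_eq_zero a).1 h2, DihedralGroup.one_def]
    · exact absurd hd' (h.refl_ne_one _)
  · rintro ⟨x, hx⟩
    obtain ⟨i, rfl | rfl⟩ := h.cases' x hx
    · exact ⟨DihedralGroup.r i, Subtype.ext (hr i)⟩
    · exact ⟨DihedralGroup.sr ((-i : ℤ) : ZMod (2 ^ (n + 2))), Subtype.ext ((hs (-i)).trans (by rw [neg_neg]))⟩

end Cfsg.Agent.DihProd
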