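import Cfsg.Agent.DihProd.CaseA
import Cfsg.Agent.DihProd.CaseB
import Mathlib.GroupTheory.SpecificGroups.Dihedral

/-!
A nonabelian product of two dihedral Sylow factors and no subgroup of index two: product fusion.
-/

set_option autoImplicit false
set_option linter.style.haveILetI false

namespace Cfsg.Agent.DihProd

open Subgroup

variable {G : Type*} [Group G] [Finite G] {P : Sylow 2 G}

theorem factor_cases {D : Subgroup G} (hD : D ≤ (P : Subgroup G))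
    (h : ∃ m : ℕ, 2 ≤ m ∧ Nonempty (↥D ≃* DihedralGroup m)) :
    ((∀ v ∈ D, v * v = 1) ∧ Nat.card ↥D = 4) ∨ ∃ (n : ℕ) (c e : G), Dih D n c e := by
  haveI : Fact (Nat.Prime 2) := ⟨Nat.prime_two⟩
  obtain ⟨m, hm, ⟨ψ⟩⟩ := h
  by_cases h4 : 4 ≤ m
  · exact Or.inr (exists_dih h4 (P.2.to_le hD) ψ)
  have h3 : m ≠ 3 := by
    rintro rfl
    obtain ⟨j, hj⟩ := IsPGroup.iff_card.1 (P.2.to_le hD)
    rw [Nat.card_congr ψ.toEquiv, DihedralGroup.nat_card] at hj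
    have h3' : 3 ∣ 2 ^ j := hj ▸ (by norm_num)
    have := Nat.le_of_dvd (by norm_num) (Nat.prime_three.dvd_of_dvd_pow h3')
    omega
  obtain rfl : m = 2 := by omega
  refine Or.inl ⟨fun v hv => ?_, by rw [Nat.card_congr ψ.toEquiv, DihedralGroup.nat_card]⟩
  have h1 : ψ (⟨v, hv⟩ * ⟨v, hv⟩) = ψ 1 := by
    rw [map_mul, map_one]
    exact IsKleinFour.mul_self _
  exact congrArg Subtype.val (ψ.injective h1)

/-- Product fusion for a suitable factorization. -/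
theorem product_fusion (h2 : ∀ N : Subgroup G, N.Normal → N.index ≠ 2)
    (hS : ¬ IsMulCommutative ↥(P : Subgroup G)) {D₁ D₂ : Subgroup G}
    (hD : Cfsg.IsInternalDirectProduct D₁ D₂ (P : Subgroup G))
    (hD₁ : ∃ m : ℕ, 2 ≤ m ∧ Nonempty (↥D₁ ≃* DihedralGroup m))
    (hD₂ : ∃ m : ℕ, 2 ≤ m ∧ Nonempty (↥D₂ ≃* DihedralGroup m)) :
    ∃ R₁ R₂ : Subgroup G, Cfsg.IsInternalDirectProduct R₁ R₂ (P : Subgroup G) ∧
      (∃ m, 2 ≤ m ∧ Nonempty (↥R₁ ≃* DihedralGroup m)) ∧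
      (∃ m, 2 ≤ m ∧ Nonempty (↥R₂ ≃* DihedralGroup m)) ∧
      Cfsg.IsStronglyClosed R₁ (P : Subgroup G) ∧ Cfsg.IsStronglyClosed R₂ (P : Subgroup G) := by
  have hs := Split.of_prod hD
  suffices h : ∃ R₁ R₂ : Subgroup G, Split P R₁ R₂ ∧
      (∃ m, 2 ≤ m ∧ Nonempty (↥R₁ ≃* DihedralGroup m)) ∧
      (∃ m, 2 ≤ m ∧ Nonempty (↥R₂ ≃* DihedralGroup m)) ∧
      Cfsg.IsStronglyClosed R₁ (P : Subgroup G) ∧ Cfsg.IsStronglyClosed R₂ (P : Subgroup G) by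
    obtain ⟨R₁, R₂, hR, hrest⟩ := h
    exact ⟨R₁, R₂, ⟨hR.le₁, hR.le₂, hR.comm, hR.disj, hR.sup⟩, hrest⟩
  rcases factor_cases hs.le₁ hD₁ with ⟨hq₁, hc₁⟩ | ⟨n₁, c₁, e₁, hd₁⟩ <;>
    rcases factor_cases hs.le₂ hD₂ with ⟨hq₂, hc₂⟩ | ⟨n₂, c₂, e₂, hd₂⟩
  · exfalso
    apply hS
    constructor
    constructor
    intro a b
    obtain ⟨a₁, ha₁, a₂, ha₂, ea⟩ := hs.decomp a.2
    obtain ⟨b₁, hb₁, b₂, hb₂, eb⟩ := hs.decomp b.2
    refine Subtype.ext ?_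
    show (a : G) * b = b * a
    rw [← ea, ← eb]
    refine (hs.commute_mul ha₁ hb₁ ha₂ hb₂ ?_ ?_).eq
    · show a₁ * b₁ = b₁ * a₁
      have := hq₁ _ (mul_mem ha₁ hb₁)
      rw [← inv_eq_of_mul_eq_one_right this, mul_inv_rev,
        inv_eq_of_mul_eq_one_right (hq₁ a₁ ha₁), inv_eq_of_mul_eq_one_right (hq₁ b₁ hb₁)]
    · show a₂ * b₂ = b₂ * a₂
      have := hq₂ _ (mul_mem ha₂ hb₂)
      rw [← inv_eq_of_mul_eq_one_right this, mul_inv_rev,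
        inv_eq_of_mul_eq_one_right (hq₂ a₂ ha₂), inv_eq_of_mul_eq_one_right (hq₂ b₂ hb₂)]
  · exact (⟨hs.symm, hd₂, hq₁, hc₁⟩ : Mixed P D₂ D₁ n₂ c₂ e₂).product_fusion h2
  · exact (⟨hs, hd₁, hq₂, hc₂⟩ : Mixed P D₁ D₂ n₁ c₁ e₁).product_fusion h2
  · exact (⟨hs, hd₁, hd₂⟩ : Two P D₁ D₂ n₁ n₂ c₁ e₁ c₂ e₂).product_fusion h2

end Cfsg.Agent.DihProd
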